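import Cfsg.Agent.Lib.SmallOrder.AltSeven.Centralizer
import Cfsg.Agent.Lib.Present.AltCosets
import Mathlib.GroupTheory.SpecificGroups.Alternating

/-!
A simple group of order `2520` is isomorphic to `A₇`: generators satisfying the relations of
Moore and Carmichael, and a subgroup of index seven.
-/

set_option autoImplicit false

namespace CfsgLib.SmallOrder.AltSeven

open Subgroup Pointwise

variable {G : Type*} [Group G] [Finite G]

/-- The four-group generated by two commuting involutions. -/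
def four (a b : G) (ha : a * a = 1) (hb : b * b = 1) (hab : a * b = b * a) : Subgroup G where
  carrier := {1, a, b, a * b}
  one_mem' := by simp
  mul_mem' := by
    have h1 : a * (a * b) = b := by rw [← mul_assoc, ha, one_mul]
    have h2 : b * (a * b) = a := by rw [hab, ← mul_assoc, hb, one_mul]
    have h3 : a * b * a = b := by rw [hab, mul_assoc, ha, mul_one]
    have h4 : a * b * b = a := by rw [mul_assoc, hb, mul_one]
    have h5 : a * b * (a * b) = 1 := by rw [mul_assoc, h2, ha]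
    intro s t hs ht
    simp only [Set.mem_insert_iff, Set.mem_singleton_iff] at hs ht ⊢
    rcases hs with hs | hs | hs | hs <;> rcases ht with ht | ht | ht | ht <;> subst s <;> subst t <;>
      simp [ha, hb, h1, h2, h3, h4, h5, ← hab]
  inv_mem' := by
    intro s hs
    simp only [Set.mem_insert_iff, Set.mem_singleton_iff] at hs ⊢
    have ha' : a⁻¹ = a := inv_eq_of_mul_eq_one_right ha
    have hb' : b⁻¹ = b := inv_eq_of_mul_eq_one_right hb
    rcases hs with hs | hs | hs | hs <;> subst s <;> simp [mul_inv_rev, ha', hb', ← hab]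

omit [Finite G] in
theorem mem_four {a b : G} {ha : a * a = 1} {hb : b * b = 1} {hab : a * b = b * a} {s : G} :
    s ∈ four a b ha hb hab ↔ s = 1 ∨ s = a ∨ s = b ∨ s = a * b := by
  change s ∈ ({1, a, b, a * b} : Set G) ↔ _
  simp

omit [Finite G] in
theorem card_four {a b : G} {ha : a * a = 1} {hb : b * b = 1} {hab : a * b = b * a} (ha1 : a ≠ 1)
    (hb1 : b ≠ 1) (hne : a ≠ b) : Nat.card (four a b ha hb hab) = 4 := by
  change Nat.card ↥({1, a, b, a * b} : Set G) = 4
  have h1 : a ≠ a * b := fun h => hb1 (left_eq_mul.1 h)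
  have h2 : b ≠ a * b := fun h => ha1 (right_eq_mul.1 h)
  have h3 : (1 : G) ≠ a * b := fun h => hne ((eq_inv_of_mul_eq_one_left h.symm).trans (inv_eq_of_mul_eq_one_right hb))
  rw [Nat.card_coe_set_eq, Set.ncard_insert_of_notMem, Set.ncard_insert_of_notMem,
    Set.ncard_insert_of_notMem, Set.ncard_singleton] <;>
    simp [ha1.symm, hb1.symm, hne, h1, h2, h3]

omit [Finite G] in
/-- The last coset bound for the relations of Moore and Carmichael. -/
theorem firstGen_five_bound {y : ℕ → G} (h : Present.AltRel y 5) :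
    (Present.firstGen y 5 : Set G).ncard ≤ (Present.firstGen y 4 : Set G).ncard * 7 := by
  have hfin4 := (Present.firstGen_bound h 4 (by norm_num)).1
  have hfinR : (Present.altReps y 4).Finite := ((Set.finite_le_nat 4).image _).union (by simp)
  have hcardR : (Present.altReps y 4).ncard ≤ 7 := by
    refine (Set.ncard_union_le _ _).trans ?_
    have h1 : ((fun j => Present.chain y (4 + 1 - j) j) '' {j | j ≤ 4}).ncard ≤ 5 := by
      refine (Set.ncard_image_le (Set.finite_le_nat 4)).trans (le_of_eq ?_)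
      rw [show {j | j ≤ 4} = ((Finset.range 5 : Finset ℕ) : Set ℕ) by ext; simp [Nat.lt_succ_iff],
        Set.ncard_coe_finset, Finset.card_range]
    have h2 := Set.ncard_insert_le (Present.chain y 1 4 * y 0) {Present.chain y 1 4 * (y 0)⁻¹}
    rw [Set.ncard_singleton] at h2
    omega
  have hsub : (Present.firstGen y 5 : Set G) ⊆
      Set.image2 (· * ·) (Present.firstGen y 4 : Set G) (Present.altReps y 4) := by
    intro g hg
    refine Subgroup.closure_induction_right ?_ ?_ ?_ hg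
    · exact ⟨1, one_mem _, 1, Or.inl ⟨0, Nat.zero_le _, rfl⟩, one_mul 1⟩
    · rintro _ _ z hz ⟨k, hk, c, hc, rfl⟩
      obtain ⟨k', hk', c', hc', e⟩ := Present.altReps_closed h (by omega) hc (Or.inl hz)
      exact ⟨k * k', mul_mem hk hk', c', hc', by simp only [mul_assoc, e]⟩
    · rintro _ _ z hz ⟨k, hk, c, hc, rfl⟩
      obtain ⟨k', hk', c', hc', e⟩ := Present.altReps_closed h (by omega) hc
        (Or.inr (by rwa [inv_inv]) : z⁻¹ ∈ y '' {i | i < 4 + 1} ∨ z⁻¹⁻¹ ∈ y '' {i | i < 4 + 1})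
      exact ⟨k * k', mul_mem hk hk', c', hc', by simp only [mul_assoc, e]⟩
  refine (Set.ncard_le_ncard hsub (hfin4.image2 (· * ·) hfinR)).trans ?_
  rw [← Set.image_prod]
  refine (Set.ncard_image_le (hfin4.prod hfinR)).trans ?_
  rw [Set.ncard_prod]
  exact Nat.mul_le_mul_left _ hcardR

variable [IsSimpleGroup G]

/-- A subgroup of index seven exists. -/
theorem exists_index_seven (hN : Nat.card G = 2520) : ∃ H : Subgroup G, H.index = 7 := by
  classical
  have : Fact (Nat.Prime 2) := ⟨Nat.prime_two⟩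
  have : Fact (Nat.Prime 3) := ⟨Nat.prime_three⟩
  have hG := not_comm hN
  obtain ⟨D⟩ := exists_pair hN
  obtain ⟨x, hxT, hxo, hxC⟩ := D.exists_x hN
  set T := D.T
  set q := D.q
  set z := q ^ 2 with hz
  have hTc := sylowThree_card hN T
  have hx1 : x ≠ 1 := fun h => by rw [h, orderOf_one] at hxo; omega
  have hx3 : x ^ 3 = 1 := hxo ▸ pow_orderOf_eq_one x
  have hz2 : z * z = 1 := by rw [hz, ← pow_add]; exact D.q_four
  have hzi : z⁻¹ = z := inv_eq_of_mul_eq_one_right hz2
  have hz1 : z ≠ 1 := fun h => by have := D.sq_order; rw [← hz, h, orderOf_one] at this; omega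
  have hzinv : ∀ t ∈ (T : Subgroup G), z * t * z = t⁻¹ := fun t ht => by
    conv_lhs => arg 2; rw [← hzi]
    exact D.hinv t ht
  have hzq : Commute z q := (Commute.refl q).pow_left 2
  -- the second line
  set u := q * x * q⁻¹ with hu
  have huT : u ∈ (T : Subgroup G) := D.conj_mem hxT
  have huo : orderOf u = 3 := by rw [hu, show q * x * q⁻¹ = MulAut.conj q x by simp, MulEquiv.orderOf_eq, hxo]
  have hu3 : u ^ 3 = 1 := huo ▸ pow_orderOf_eq_one u
  have hu1 : u ≠ 1 := fun h => by rw [h, orderOf_one] at huo; omega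
  have hux : u ∉ zpowers x := by
    intro h
    obtain ⟨n, hn⟩ := mem_powers_iff_mem_zpowers.2 h
    change x ^ n = u at hn
    have h2 : z * x * z = x ^ (n * n) := by
      calc z * x * z = q * (q * x * q⁻¹) * q⁻¹ := by
            conv_lhs => arg 2; rw [← hzi]
            rw [hz, pow_two]; group
        _ = _ := by rw [← hu, ← hn, ← conj_pow, ← hu, ← hn, ← pow_mul]
    rw [hzinv x hxT, inv_eq_iff_mul_eq_one, ← pow_succ'] at h2
    have h3 := orderOf_dvd_of_pow_eq_one h2
    rw [hxo] at h3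
    have h12 : n % 3 = 0 ∨ n % 3 = 1 ∨ n % 3 = 2 := by omega
    have := Nat.mul_mod n n 3
    rcases h12 with e | e | e <;> rw [e] at this <;> omega
  have hquq : q⁻¹ * u * q = x := by rw [hu]; group
  have hqxq : q⁻¹ * x * q = u⁻¹ := by
    rw [← hzinv u huT, hu]
    calc q⁻¹ * x * q = q ^ 4 * (q⁻¹ * x * q) := by rw [D.q_four, one_mul]
      _ = q ^ 2 * (q * x * q⁻¹) * q ^ 2 := by group
  have hgen : ∀ H : Subgroup G, x ∈ H → u ∈ H → (T : Subgroup G) ≤ H := by
    intro H hxH huH
    set K := (T : Subgroup G) ⊓ H with hK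
    obtain ⟨k, hk, hk'⟩ := (Nat.dvd_prime_pow Nat.prime_three).1 (show Nat.card K ∣ 3 ^ 2 from
      (card_dvd_of_le inf_le_left).trans hTc.dvd)
    have h3 : zpowers x ≤ K := zpowers_le.2 ⟨hxT, hxH⟩
    have hk2 : k = 2 := by
      interval_cases k
      · have := card_le_of_le h3
        rw [Nat.card_zpowers, hxo, hk'] at this
        omega
      · exfalso
        apply hux
        rw [eq_of_le_of_card_ge h3 (by rw [Nat.card_zpowers, hxo, hk']; norm_num)]
        exact ⟨huT, huH⟩
      · rfl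
    subst hk2
    exact (eq_of_le_of_card_ge inf_le_left (by rw [hk', hTc]; norm_num)).ge.trans inf_le_right
  -- the centraliser of `x`
  set C := centralizer ({x} : Set G) with hC
  have hCc : Nat.card C = 36 := hxC
  have hTC : (T : Subgroup G) ≤ C := fun t ht => mem_centralizer_singleton_iff.2 (sylowThree_comm hN T ht hxT)
  have hnotT : ∀ r : G, orderOf r = 2 → r ∉ (T : Subgroup G) := fun r hr h => by
    have h9 := orderOf_dvd_natCard (T : Subgroup G) h
    rw [hr, hTc] at h9
    omega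
  have hnocentral : ∀ r : G, orderOf r = 2 → r ∈ C → ¬ (T : Subgroup G) ≤ centralizer ({r} : Set G) := by
    intro r hr _ hle
    apply hnotT r hr
    rw [← centralizer_sylowThree hN T]
    exact mem_centralizer_iff.2 fun t ht => mem_centralizer_singleton_iff.1 (hle ht)
  obtain ⟨R⟩ := (inferInstance : Nonempty (Sylow 2 C))
  have hRc : Nat.card ↥(R : Subgroup C) = 4 := by
    simpa using card_sylow_eq (e := 2) (m := 9) (by rw [hCc]; norm_num) (by norm_num) R
  have hRn : Nat.card (Sylow 2 C) = 1 := by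
    set NR := normalizer ((R : Subgroup C) : Set C) with hNR
    have hxmem : (⟨x, hTC hxT⟩ : C) ∈ NR := by
      refine centralizer_le_normalizer _ (mem_centralizer_iff.2 fun w _ => Subtype.ext ?_)
      exact mem_centralizer_singleton_iff.1 w.2
    have h12 : 12 ∣ Nat.card NR := by
      refine Nat.Coprime.mul_dvd_of_dvd_of_dvd (show Nat.Coprime 3 4 by norm_num) ?_
        (hRc ▸ card_dvd_of_le le_normalizer)
      have h := orderOf_dvd_natCard NR hxmem
      rwa [orderOf_mk, hxo] at h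
    have hmul := card_normalizer_mul R
    rw [hCc, ← hNR] at hmul
    have hmod := card_sylow_modEq_one 2 C
    obtain ⟨k, hk⟩ := h12
    rw [hk, mul_assoc] at hmul
    have hd3 : Nat.card (Sylow 2 C) ∣ 3 := ⟨k, by rw [mul_comm _ k]; omega⟩
    rcases (Nat.dvd_prime Nat.prime_three).1 hd3 with h | h
    · exact h
    exfalso
    let f := MulAction.toPermHom C (Sylow 2 C)
    have hker : f.ker ≤ NR := fun g hg => smul_eq_self_iff.1 (by
      have := Equiv.ext_iff.1 (MonoidHom.mem_ker.1 hg) R; exact this)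
    have hk1 : k = 1 := by rw [h] at hmul; omega
    have hNR12 : Nat.card NR = 12 := by rw [hk, hk1]
    have hxK : (⟨x, hTC hxT⟩ : C) ∈ f.ker := by
      rw [MonoidHom.mem_ker]
      refine Equiv.ext fun S => ?_
      change (⟨x, hTC hxT⟩ : C) • S = S
      refine smul_eq_self_iff.2 (centralizer_le_normalizer _ (mem_centralizer_iff.2 fun w _ => Subtype.ext ?_))
      exact mem_centralizer_singleton_iff.1 w.2
    have hidx : f.ker.index ∣ 6 := by
      rw [Subgroup.index_ker]
      have := Subgroup.card_subgroup_dvd_card f.range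
      rw [Nat.card_perm, h] at this
      exact this
    have hcm := f.ker.card_mul_index
    rw [hCc] at hcm
    have hdK : Nat.card f.ker ∣ 12 := hNR12 ▸ card_dvd_of_le hker
    obtain ⟨i6, hi6⟩ := hidx
    have h6 : 6 ∣ Nat.card f.ker := ⟨i6, by
      have h0 : 0 < f.ker.index := Nat.pos_of_ne_zero index_ne_zero_of_finite
      apply Nat.eq_of_mul_eq_mul_right h0
      rw [hcm, mul_assoc, mul_comm i6, ← hi6]
      all_goals norm_num⟩
    rcases (by decide : ∀ n ∈ Nat.divisors 12, 6 ∣ n → n = 6 ∨ n = 12) _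
        (Nat.mem_divisors.2 ⟨hdK, by norm_num⟩) h6 with hK6 | hK12
    · -- an involution of the kernel would be central
      obtain ⟨⟨j, hj⟩, hjo⟩ := exists_prime_orderOf_dvd_card' (G := f.ker) 2 (by rw [hK6]; norm_num)
      rw [orderOf_mk] at hjo
      have hRmem : ∀ g : C, g ∈ f.ker → orderOf g = 2 → g ∈ (R : Subgroup C) := fun g hg hgo => by
        have hp : IsPGroup 2 (zpowers g) :=
          IsPGroup.of_card (n := 1) (by rw [Nat.card_zpowers, hgo, pow_one])
        exact (hp.inf_normalizer_sylow R ▸ ⟨mem_zpowers g, hker hg⟩ : g ∈ zpowers g ⊓ (R : Subgroup C)).2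
      have hcentral : ∀ g : C, g * j = j * g := by
        intro g
        have hgj : g * j * g⁻¹ ∈ f.ker := f.normal_ker.conj_mem j hj g
        have hgo : orderOf (g * j * g⁻¹) = 2 := by
          rw [show g * j * g⁻¹ = MulAut.conj g j by simp, MulEquiv.orderOf_eq, hjo]
        set K2 := f.ker ⊓ (R : Subgroup C) with hK2
        have hd := Nat.dvd_gcd (card_dvd_of_le (inf_le_left : K2 ≤ f.ker))
          (card_dvd_of_le (inf_le_right : K2 ≤ (R : Subgroup C)))
        rw [hK6, hRc] at hd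
        have hle : zpowers j ≤ K2 := zpowers_le.2 ⟨hj, hRmem j hj hjo⟩
        have heq : zpowers j = K2 := eq_of_le_of_card_ge hle (by
          rw [Nat.card_zpowers, hjo]; exact Nat.le_of_dvd (by norm_num) hd)
        have hmem : g * j * g⁻¹ ∈ zpowers j := heq ▸ ⟨hgj, hRmem _ hgj hgo⟩
        obtain ⟨n, hn⟩ := mem_powers_iff_mem_zpowers.2 hmem
        change j ^ n = _ at hn
        rw [← pow_mod_orderOf, hjo] at hn
        rcases Nat.mod_two_eq_zero_or_one n with e | e <;> rw [e] at hn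
        · rw [pow_zero] at hn
          rw [← hn, orderOf_one] at hgo
          omega
        · rw [pow_one] at hn
          exact mul_inv_eq_iff_eq_mul.1 hn.symm
      refine hnocentral (j : G) (by rw [orderOf_coe]; exact hjo) j.2 fun t ht => ?_
      exact mem_centralizer_singleton_iff.2 (congrArg Subtype.val (hcentral ⟨t, hTC ht⟩))
    · have heq : f.ker = NR := eq_of_le_of_card_ge hker (by rw [hK12, hNR12])
      have hn : NR.Normal := heq ▸ f.normal_ker
      have htop : NR = ⊤ := by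
        rw [← normalizer_eq_top_iff.2 hn]
        exact (Sylow.normalizer_normalizer R).symm
      rw [htop, card_top, hCc] at hNR12
      omega
  set V := (R : Subgroup C).map C.subtype with hV
  have hVc : Nat.card V = 4 := by rw [hV, card_map_of_injective C.subtype_injective, hRc]
  have hVC : V ≤ C := map_subtype_le _
  have hVnorm : C ≤ normalizer (V : Set G) := by
    have htop : normalizer ((R : Subgroup C) : Set C) = ⊤ :=
      index_eq_one.1 (R.card_eq_index_normalizer.symm.trans hRn)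
    have h := le_normalizer_map (H := (R : Subgroup C)) C.subtype
    rwa [htop, ← MonoidHom.range_eq_map, C.range_subtype] at h
  have hVall : ∀ g ∈ C, g ^ 4 = 1 → g ∈ V := by
    intro g hg hg4
    obtain ⟨k, -, hk⟩ := (Nat.dvd_prime_pow Nat.prime_two).1
      (show orderOf g ∣ 2 ^ 2 from orderOf_dvd_of_pow_eq_one hg4)
    have hp : IsPGroup 2 (zpowers (⟨g, hg⟩ : C)) :=
      IsPGroup.of_card (n := k) (by rw [Nat.card_zpowers, orderOf_mk, hk])
    obtain ⟨Q, hQ⟩ := hp.exists_le_sylow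
    have : Subsingleton (Sylow 2 C) := (Nat.card_eq_one_iff_unique.1 hRn).1
    rw [Subsingleton.elim Q R] at hQ
    exact ⟨⟨g, hg⟩, hQ (mem_zpowers _), rfl⟩
  have hVsq : ∀ v ∈ V, v * v = 1 := by
    intro v hv
    by_contra hne
    obtain ⟨k, hk, hk'⟩ := (Nat.dvd_prime_pow Nat.prime_two).1
      (show orderOf v ∣ 2 ^ 2 from (orderOf_dvd_natCard V hv).trans hVc.dvd)
    interval_cases k
    · exact hne (by rw [orderOf_eq_one_iff.1 hk', one_mul])
    · exact hne (by rw [← pow_two, ← show orderOf v = 2 from hk', pow_orderOf_eq_one])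
    have hVz : zpowers v = V := eq_of_le_of_card_ge (zpowers_le.2 hv) (by
      rw [Nat.card_zpowers, hk', hVc]; norm_num)
    have hv4 : v ^ 4 = 1 := by rw [show 4 = orderOf v by rw [hk']; norm_num, pow_orderOf_eq_one]
    have hr : orderOf (v ^ 2) = 2 := by rw [orderOf_pow' _ two_ne_zero, hk']; norm_num
    refine hnocentral (v ^ 2) hr (pow_mem (hVC hv) 2) fun t ht => mem_centralizer_singleton_iff.2 ?_
    obtain ⟨n, hn⟩ := mem_powers_iff_mem_zpowers.2
      (hVz ▸ (mem_normalizer_iff.1 (hVnorm (hTC ht)) v).1 hv : t * v * t⁻¹ ∈ zpowers v)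
    change v ^ n = t * v * t⁻¹ at hn
    have hodd : n % 2 = 1 := by
      by_contra h
      obtain ⟨l, rfl⟩ : 2 ∣ n := by omega
      have h1 : (t * v * t⁻¹) ^ 2 = 1 := by
        rw [← hn, ← pow_mul, show 2 * l * 2 = 4 * l by ring, pow_mul, hv4, one_pow]
      rw [conj_pow, conj_eq_one_iff] at h1
      rw [h1, orderOf_one] at hr
      omega
    refine mul_inv_eq_iff_eq_mul.1 ?_
    rw [← conj_pow, ← hn, ← pow_mul]
    refine pow_eq_pow_iff_modEq.2 ?_
    rw [hk', Nat.ModEq]
    omega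
  have hVord : ∀ v ∈ V, v ≠ 1 → orderOf v = 2 := fun v hv h =>
    orderOf_eq_prime (by rw [pow_two]; exact hVsq v hv) h
  have hVnotT : ∀ v ∈ V, v ≠ 1 → v ∉ (T : Subgroup G) := fun v hv h1 => hnotT v (hVord v hv h1)
  have hline : ∀ v ∈ V, v ≠ 1 → ∀ t ∈ (T : Subgroup G), Commute v t → t ∈ zpowers x := fun v hv h1 =>
    (fixed_line hN T (hVnotT v hv h1) hxT hx1 (mem_centralizer_singleton_iff.1 (hVC hv))).2
  have hzC : ∀ g ∈ C, z * g * z ∈ C := fun g hg => by
    refine mem_centralizer_singleton_iff.2 ?_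
    have h := hzinv x hxT
    have hx' : x = z * x⁻¹ * z := by rw [hzinv x⁻¹ (inv_mem hxT), inv_inv]
    have hg' : Commute g x⁻¹ := (show Commute g x from mem_centralizer_singleton_iff.1 hg).inv_right
    conv_lhs => arg 2; rw [hx']
    conv_rhs => arg 1; rw [hx']
    calc z * g * z * (z * x⁻¹ * z) = z * (g * (z * z) * x⁻¹) * z := by group
      _ = z * (x⁻¹ * (z * z) * g) * z := by rw [hz2, mul_one, mul_one, hg'.eq]
      _ = z * x⁻¹ * z * (z * g * z) := by group
  have hzV : ∀ v ∈ V, z * v * z ∈ V := fun v hv => hVall _ (hzC v (hVC hv)) (by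
    conv_lhs => arg 1; arg 2; rw [← hzi]
    rw [conj_pow, show (4 : ℕ) = 2 * 2 from rfl, pow_mul, pow_two v, hVsq v hv, one_pow]
    group)
  have hVcomm : ∀ v ∈ V, ∀ w ∈ V, v * w = w * v := fun v hv w hw => by
    have h1 : v⁻¹ = v := inv_eq_of_mul_eq_one_right (hVsq v hv)
    have h2 : w⁻¹ = w := inv_eq_of_mul_eq_one_right (hVsq w hw)
    calc v * w = (v * w)⁻¹ := (inv_eq_of_mul_eq_one_right (hVsq _ (mul_mem hv hw))).symm
      _ = w * v := by rw [mul_inv_rev, h1, h2]
  obtain ⟨v₀, hv₀, hv₀1, hv₀z⟩ : ∃ v₀ ∈ V, v₀ ≠ 1 ∧ Commute z v₀ := by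
    obtain ⟨⟨v, hv⟩, hv'⟩ := (Subgroup.ne_bot_iff_exists_ne_one).1
      (show V ≠ ⊥ from fun h => by rw [h, card_bot] at hVc; omega)
    by_cases hfix : z * v * z = v
    · refine ⟨v, hv, fun h => hv' (Subtype.ext h), ?_⟩
      have : z * v = z * v * z * z := by rw [mul_assoc _ z z, hz2, mul_one]
      rw [hfix] at this
      exact this
    · refine ⟨v * (z * v * z), mul_mem hv (hzV v hv), fun h => hfix ?_, ?_⟩
      · rw [← inv_eq_of_mul_eq_one_right h]
        exact inv_eq_of_mul_eq_one_right (hVsq v hv)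
      · change z * (v * (z * v * z)) = v * (z * v * z) * z
        rw [hVcomm v hv _ (hzV v hv)]
        calc z * (z * v * z * v) = (z * z) * v * z * v := by group
          _ = v * z * v := by rw [hz2, one_mul]
          _ = (z * v * z) * v * z := by
            have h := hVcomm v hv _ (hzV v hv)
            calc v * z * v = v * (z * v * z) * z := by
                  rw [mul_assoc v (z * v * z) z, mul_assoc (z * v) z z, hz2, mul_one, mul_assoc]
              _ = z * v * z * v * z := by rw [h]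
  have hv₀2 := hVsq v₀ hv₀
  have hv₀o := hVord v₀ hv₀ hv₀1
  have hv₀x : Commute v₀ x := mem_centralizer_singleton_iff.1 (hVC hv₀)
  -- the product of `v₀` with an element of `T` outside `⟨x⟩` has order three
  have hcube : ∀ g ∈ (T : Subgroup G), g ^ 3 = 1 → g ∉ zpowers x → (g * v₀) ^ 3 = 1 := by
    intro g hg hg3 hgx
    have hgn : g ∈ normalizer (V : Set G) := hVnorm (hTC hg)
    have ha : g * v₀ * g⁻¹ ∈ V := (mem_normalizer_iff.1 hgn v₀).1 hv₀
    have hb : g * (g * v₀ * g⁻¹) * g⁻¹ ∈ V := (mem_normalizer_iff.1 hgn _).1 ha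
    set a := g * v₀ * g⁻¹ with hadef
    set b := g * a * g⁻¹ with hbdef
    have hav : a ≠ v₀ := fun h => hgx (hline v₀ hv₀ hv₀1 g hg (mul_inv_eq_iff_eq_mul.1 h).symm)
    have ha1 : a ≠ 1 := fun h => hv₀1 (conj_eq_one_iff.1 h)
    have hb1 : b ≠ 1 := fun h => ha1 (conj_eq_one_iff.1 h)
    have hbv : b ≠ v₀ := fun h => by
      apply hav
      have h3 : g * b * g⁻¹ = v₀ := by
        calc g * b * g⁻¹ = g ^ 3 * v₀ * (g ^ 3)⁻¹ := by rw [hbdef, hadef, pow_three' g]; group
          _ = v₀ := by rw [hg3]; group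
      rwa [h] at h3
    have hba : b ≠ a := fun h => hav (mul_left_cancel (mul_right_cancel h))
    have hV4 : four a b (hVsq a ha) (hVsq b hb) (hVcomm a ha b hb) = V :=
      eq_of_le_of_card_ge (fun s hs => by
        rcases mem_four.1 hs with rfl | rfl | rfl | rfl
        · exact one_mem V
        · exact ha
        · exact hb
        · exact mul_mem ha hb) (by rw [card_four ha1 hb1 hba.symm, hVc])
    have hv : v₀ = a * b := by
      rcases mem_four.1 (hV4.ge hv₀) with h | h | h | h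
      · exact absurd h hv₀1
      · exact absurd h.symm hav
      · exact absurd h.symm hbv
      · exact h
    calc (g * v₀) ^ 3 = a * b * (g ^ 3 * v₀ * (g ^ 3)⁻¹) * g ^ 3 := by
          rw [hbdef, hadef, pow_succ, pow_two]; group
      _ = v₀ * v₀ := by rw [hg3, ← hv]; group
      _ = 1 := hv₀2
  -- the centraliser of `v₀`
  obtain ⟨c, hc⟩ := isConj_iff.1 ((involution hN).1 v₀ z hv₀o D.sq_order)
  set Cv := centralizer ({v₀} : Set G) with hCv
  have hCv24 : Nat.card Cv = 24 := by
    rw [hCv, card_centralizer_of_isConj ((involution hN).1 v₀ z hv₀o D.sq_order)]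
    exact D.card_centralizer_sq hN
  have hxCv : x ∈ Cv := mem_centralizer_singleton_iff.2 hv₀x.eq.symm
  obtain ⟨X, hX⟩ := exists_sylow_eq (G := Cv) (p := 3) (m := 8) (by rw [hCv24]) (by norm_num)
    (show Nat.card (zpowers (⟨x, hxCv⟩ : Cv)) = 3 by rw [Nat.card_zpowers, orderOf_mk, hxo])
  have hXn : Nat.card (Sylow 3 Cv) = 1 := by
    set NX := normalizer ((X : Subgroup Cv) : Set Cv) with hNX
    have hzCv : z ∈ Cv := mem_centralizer_singleton_iff.2 hv₀z.eq
    have hv₀Cv : v₀ ∈ Cv := mem_centralizer_singleton_iff.2 rfl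
    have hzX : (⟨z, hzCv⟩ : Cv) ∈ NX := by
      rw [hNX, hX]
      refine mem_normalizer_iff.2 fun w => ?_
      have h1 : ∀ s : Cv, s ∈ zpowers (⟨x, hxCv⟩ : Cv) → (⟨z, hzCv⟩ : Cv) * s * (⟨z, hzCv⟩ : Cv)⁻¹ ∈
          zpowers (⟨x, hxCv⟩ : Cv) := by
        intro s hs
        obtain ⟨n, rfl⟩ := mem_zpowers_iff.1 hs
        have e : (⟨z, hzCv⟩ : Cv) * ⟨x, hxCv⟩ * (⟨z, hzCv⟩ : Cv)⁻¹ = (⟨x, hxCv⟩ : Cv)⁻¹ :=
          Subtype.ext (D.hinv x hxT)
        rw [← conj_zpow, e]
        exact zpow_mem (inv_mem (mem_zpowers _)) n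
      refine ⟨h1 w, fun h => ?_⟩
      have h' := h1 _ h
      have hzz : (⟨z, hzCv⟩ : Cv) * ⟨z, hzCv⟩ = 1 := Subtype.ext hz2
      rwa [show (⟨z, hzCv⟩ : Cv) * (⟨z, hzCv⟩ * w * (⟨z, hzCv⟩ : Cv)⁻¹) * (⟨z, hzCv⟩ : Cv)⁻¹ =
        (⟨z, hzCv⟩ * ⟨z, hzCv⟩) * w * (⟨z, hzCv⟩ * ⟨z, hzCv⟩ : Cv)⁻¹ by group, hzz, inv_one, one_mul, mul_one] at h'
    have hvX : (⟨v₀, hv₀Cv⟩ : Cv) ∈ NX := by
      rw [hNX, hX]
      exact centralizer_le_normalizer _ (mem_centralizer_zpowers (Subtype.ext hv₀x.eq))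
    have hne : z ≠ v₀ := fun h => hx1 (D.eq_one_of_fixed hN hxT (by
      rw [← hz, h]; exact mul_inv_eq_iff_eq_mul.2 hv₀x.eq))
    have h4 : 4 ∣ Nat.card NX := by
      have hcm : (⟨z, hzCv⟩ : Cv) * ⟨v₀, hv₀Cv⟩ = ⟨v₀, hv₀Cv⟩ * ⟨z, hzCv⟩ := Subtype.ext hv₀z.eq
      let F := four (⟨z, hzCv⟩ : Cv) ⟨v₀, hv₀Cv⟩ (Subtype.ext hz2) (Subtype.ext hv₀2) hcm
      have hF : Nat.card F = 4 := card_four (fun h => hz1 (congrArg Subtype.val h))
        (fun h => hv₀1 (congrArg Subtype.val h)) (fun h => hne (congrArg Subtype.val h))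
      refine hF ▸ card_dvd_of_le (fun s hs => ?_)
      rcases mem_four.1 hs with rfl | rfl | rfl | rfl
      · exact one_mem _
      · exact hzX
      · exact hvX
      · exact mul_mem hzX hvX
    have h3 : 3 ∣ Nat.card NX := by
      have h := card_dvd_of_le (le_normalizer (H := (X : Subgroup Cv)))
      rw [← hNX] at h
      rw [hX, Nat.card_zpowers, orderOf_mk, hxo] at h
      exact h
    have h12 : 12 ∣ Nat.card NX := Nat.Coprime.mul_dvd_of_dvd_of_dvd (show Nat.Coprime 3 4 by norm_num) h3 h4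
    have hmul := card_normalizer_mul X
    rw [hCv24, ← hNX] at hmul
    obtain ⟨k, hk⟩ := h12
    rw [hk, mul_assoc] at hmul
    have hmod := card_sylow_modEq_one 3 Cv
    have hd : Nat.card (Sylow 3 Cv) ∣ 2 := ⟨k, by rw [mul_comm _ k]; omega⟩
    exact (by decide : ∀ n ∈ Nat.divisors 2, n % 3 = 1 → n = 1) _ (Nat.mem_divisors.2 ⟨hd, by norm_num⟩) hmod
  have hXnorm : ∀ g ∈ Cv, g * x * g⁻¹ ∈ zpowers x := by
    intro g hg
    have htop : normalizer ((X : Subgroup Cv) : Set Cv) = ⊤ :=
      index_eq_one.1 (X.card_eq_index_normalizer.symm.trans hXn)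
    have h : (⟨g, hg⟩ : Cv) ∈ normalizer ((X : Subgroup Cv) : Set Cv) := htop ▸ mem_top _
    rw [hX] at h
    obtain ⟨n, hn⟩ := mem_zpowers_iff.1 ((mem_normalizer_iff.1 h ⟨x, hxCv⟩).1 (mem_zpowers _))
    exact mem_zpowers_iff.2 ⟨n, congrArg Subtype.val hn⟩
  have hXthree : ∀ g ∈ Cv, g ^ 3 = 1 → g ∈ zpowers x := by
    intro g hg hg3
    have hp : IsPGroup 3 (zpowers (⟨g, hg⟩ : Cv)) := by
      obtain ⟨k, -, hk⟩ := (Nat.dvd_prime_pow Nat.prime_three).1
        (show orderOf g ∣ 3 ^ 1 from orderOf_dvd_of_pow_eq_one (by rw [pow_one]; exact hg3))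
      exact IsPGroup.of_card (n := k) (by rw [Nat.card_zpowers, orderOf_mk, hk])
    obtain ⟨Q, hQ⟩ := hp.exists_le_sylow
    have : Subsingleton (Sylow 3 Cv) := (Nat.card_eq_one_iff_unique.1 hXn).1
    rw [Subsingleton.elim Q X, hX] at hQ
    obtain ⟨n, hn⟩ := mem_zpowers_iff.1 (hQ (mem_zpowers _))
    exact mem_zpowers_iff.2 ⟨n, congrArg Subtype.val hn⟩
  -- the normal subgroup of order three of `C(z)`
  set Cz := centralizer ({z} : Set G) with hCz
  have hCz24 : Nat.card Cz = 24 := D.card_centralizer_sq hN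
  set w := c * x * c⁻¹ with hw
  have hwo : orderOf w = 3 := by rw [hw, show c * x * c⁻¹ = MulAut.conj c x by simp, MulEquiv.orderOf_eq, hxo]
  have hwz : w ∈ Cz := by
    refine mem_centralizer_singleton_iff.2 ?_
    rw [← hc, hw]
    calc c * x * c⁻¹ * (c * v₀ * c⁻¹) = c * (x * v₀) * c⁻¹ := by group
      _ = c * (v₀ * x) * c⁻¹ := by rw [hv₀x.eq]
      _ = _ := by group
  have hWnorm : ∀ g ∈ Cz, g * w * g⁻¹ ∈ zpowers w := by
    intro g hg
    have hg' : c⁻¹ * g * c ∈ Cv := by
      refine mem_centralizer_singleton_iff.2 ?_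
      have h := mem_centralizer_singleton_iff.1 hg
      rw [← hc] at h
      calc c⁻¹ * g * c * v₀ = c⁻¹ * (g * (c * v₀ * c⁻¹)) * c := by group
        _ = c⁻¹ * (c * v₀ * c⁻¹ * g) * c := by rw [h]
        _ = _ := by group
    obtain ⟨n, hn⟩ := mem_zpowers_iff.1 (hXnorm _ hg')
    refine mem_zpowers_iff.2 ⟨n, ?_⟩
    rw [hw, conj_zpow, hn]
    group
  have hv₀Cz : v₀ ∈ Cz := mem_centralizer_singleton_iff.2 hv₀z.eq.symm
  have hv₀w : v₀ * w * v₀ = w⁻¹ := by
    obtain ⟨n, hn⟩ := mem_powers_iff_mem_zpowers.2 (hWnorm v₀ hv₀Cz)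
    change w ^ n = _ at hn
    rw [← pow_mod_orderOf, hwo, inv_eq_of_mul_eq_one_right hv₀2] at hn
    have h3 : n % 3 = 0 ∨ n % 3 = 1 ∨ n % 3 = 2 := by omega
    rcases h3 with e | e | e <;> rw [e] at hn
    · exfalso
      rw [pow_zero] at hn
      have h1 : w = v₀ * (v₀ * w * v₀) * v₀ := by
        rw [show v₀ * (v₀ * w * v₀) * v₀ = (v₀ * v₀) * w * (v₀ * v₀) by group, hv₀2]; group
      rw [← hn, mul_one, hv₀2] at h1
      rw [h1, orderOf_one] at hwo
      omega
    · exfalso
      rw [pow_one] at hn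
      have hcomm : Commute v₀ w := by
        change v₀ * w = w * v₀
        conv_rhs => rw [hn, mul_assoc _ v₀ v₀, hv₀2, mul_one]
      obtain ⟨m, hm⟩ := mem_powers_iff_mem_zpowers.2
        (hXthree w (mem_centralizer_singleton_iff.2 hcomm.eq.symm) (hwo ▸ pow_orderOf_eq_one w))
      change x ^ m = w at hm
      have hwT : w ∈ (T : Subgroup G) := hm ▸ pow_mem hxT m
      have h1 := D.eq_one_of_fixed hN hwT (by
        rw [← hz]
        exact mul_inv_eq_iff_eq_mul.2 (mem_centralizer_singleton_iff.1 hwz).symm)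
      rw [h1, orderOf_one] at hwo
      omega
    · rw [← hn]
      exact eq_inv_of_mul_eq_one_left (by
        rw [← pow_succ, show 2 + 1 = orderOf w by rw [hwo], pow_orderOf_eq_one])
  have hqCz : q ∈ Cz := mem_centralizer_singleton_iff.2 hzq.eq.symm
  have hkey : q * v₀ * q⁻¹ * v₀ * z ∈ zpowers w := by
    set W := (zpowers w).subgroupOf Cz with hW
    have hWn : W.Normal := ⟨fun s hs g => by
      rw [hW, mem_subgroupOf] at hs ⊢
      obtain ⟨n, hn⟩ := mem_zpowers_iff.1 hs
      simp only [Subgroup.coe_mul, InvMemClass.coe_inv, ← hn, ← conj_zpow]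
      exact zpow_mem (hWnorm g g.2) n⟩
    let π := QuotientGroup.mk' W
    have hmem : ∀ s : Cz, π s = 1 ↔ (s : G) ∈ zpowers w := fun s =>
      (QuotientGroup.eq_one_iff s).trans mem_subgroupOf
    have hWc : Nat.card W = 3 := by
      rw [Nat.card_congr (subgroupOfEquivOfLe (zpowers_le.2 hwz)).toEquiv, Nat.card_zpowers, hwo]
    have hQ8 : Nat.card (Cz ⧸ W) = 8 := by
      have h := W.card_mul_index
      rw [hWc, hCz24] at h
      change W.index = 8
      omega
    set qb := π ⟨q, hqCz⟩ with hqb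
    set vb := π ⟨v₀, hv₀Cz⟩ with hvb
    have hqb4 : qb ^ 4 = 1 := by
      rw [hqb, ← map_pow, show (⟨q, hqCz⟩ : Cz) ^ 4 = 1 from Subtype.ext D.q_four, map_one]
    have hqo : orderOf qb = 4 := by
      refine orderOf_eq_prime_pow (p := 2) (n := 1) ?_ hqb4
      intro h
      rw [pow_one, hqb, ← map_pow, hmem] at h
      have hd := orderOf_dvd_natCard (zpowers w) h
      rw [Nat.card_zpowers, hwo, SubmonoidClass.coe_pow, D.sq_order] at hd
      omega
    have hQidx : (zpowers qb).index = 2 := by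
      have h := (zpowers qb).card_mul_index
      rw [Nat.card_zpowers, hqo, hQ8] at h
      omega
    have hn := (normal_of_index_eq_two hQidx).conj_mem qb (mem_zpowers qb) vb
    obtain ⟨e, he⟩ := mem_powers_iff_mem_zpowers.2 hn
    change qb ^ e = _ at he
    rw [← pow_mod_orderOf, hqo] at he
    have hvv : vb * vb = 1 := by
      rw [hvb, ← map_mul, show (⟨v₀, hv₀Cz⟩ : Cz) * ⟨v₀, hv₀Cz⟩ = 1 from Subtype.ext hv₀2, map_one]
    have hvi : vb⁻¹ = vb := inv_eq_of_mul_eq_one_right hvv
    have hord : orderOf (vb * qb * vb⁻¹) = 4 := by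
      rw [show vb * qb * vb⁻¹ = MulAut.conj vb qb by simp, MulEquiv.orderOf_eq, hqo]
    have h4 : e % 4 = 1 ∨ e % 4 = 3 := by
      have h : e % 4 = 0 ∨ e % 4 = 1 ∨ e % 4 = 2 ∨ e % 4 = 3 := by omega
      rcases h with h | h | h | h
      · rw [h, pow_zero] at he; rw [← he, orderOf_one] at hord; omega
      · exact Or.inl h
      · rw [h] at he
        rw [← he, orderOf_pow' _ two_ne_zero, hqo] at hord
        norm_num at hord
      · exact Or.inr h
    rcases h4 with h | h <;> rw [h] at he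
    · -- the commutator is not trivial
      exfalso
      rw [pow_one] at he
      have hcq : qb * vb * qb⁻¹ * vb = 1 := by
        have h1 : vb * qb = qb * vb := by
          conv_rhs => arg 1; rw [he]
          group
        rw [← h1, mul_inv_cancel_right, hvv]
      rw [hqb, hvb, ← map_inv, ← map_mul, ← map_mul, ← map_mul, hmem] at hcq
      obtain ⟨n, hn⟩ := mem_zpowers_iff.1 hcq
      simp only [Subgroup.coe_mul, InvMemClass.coe_inv] at hn
      set s := w ^ (2 * n) with hs
      have hw3 : w ^ (3 : ℤ) = 1 := by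
        rw [show (3 : ℤ) = ((3 : ℕ) : ℤ) from rfl, zpow_natCast, ← hwo, pow_orderOf_eq_one]
      have hinvs : v₀ * s * v₀ = s⁻¹ := by
        have h1 := conj_zpow (a := v₀) (b := w) (i := 2 * n)
        rw [inv_eq_of_mul_eq_one_right hv₀2, hv₀w] at h1
        rw [hs, ← h1, inv_zpow]
      have hsv : q * v₀ * q⁻¹ = s * v₀ * s⁻¹ := by
        calc q * v₀ * q⁻¹ = q * v₀ * q⁻¹ * (v₀ * v₀) := by rw [hv₀2, mul_one]
          _ = w ^ n * v₀ := by rw [← mul_assoc, ← hn]
          _ = s * s * v₀ := by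
            have h4 : (2 * n) + (2 * n) = n + 3 * n := by ring
            rw [hs, ← zpow_add, h4, zpow_add, zpow_mul, hw3, one_zpow, mul_one]
          _ = s * (v₀ * v₀) * s * v₀ := by rw [hv₀2, mul_one]
          _ = s * v₀ * (v₀ * s * v₀) := by group
          _ = _ := by rw [hinvs]
      have hgv : s⁻¹ * q ∈ Cv := by
        refine mem_centralizer_singleton_iff.2 ?_
        calc s⁻¹ * q * v₀ = s⁻¹ * (q * v₀ * q⁻¹) * q := by group
          _ = _ := by rw [hsv]; group
      have hsu : s⁻¹ * u * s ∈ zpowers x := by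
        have := hXnorm _ hgv
        rwa [show s⁻¹ * q * x * (s⁻¹ * q)⁻¹ = s⁻¹ * u * s by rw [hu]; group] at this
      have hXeq : zpowers (s⁻¹ * u * s) = zpowers x := zpowers_eq_of_prime Nat.prime_three
        (by rw [Nat.card_zpowers, hxo]) hsu (fun h => hu1 (by
          rw [show u = s * (s⁻¹ * u * s) * s⁻¹ by group, h]; group))
      obtain ⟨a, ha⟩ := mem_zpowers_iff.1 (hXeq.ge (mem_zpowers x))
      have hsxs : s * x * s⁻¹ = u ^ a := by
        rw [← ha, ← conj_zpow]
        group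
      have hs3 : s ^ 3 = 1 := by
        rw [hs, ← zpow_natCast, ← zpow_mul, mul_comm, zpow_mul]
        rw [show ((3 : ℕ) : ℤ) = 3 from rfl, hw3, one_zpow]
      set y := s * u * s⁻¹ with hy
      have huxc : Commute u x := sylowThree_comm hN T huT hxT
      have hyu : Commute y (u ^ a) := by
        rw [← hsxs]
        calc y * (s * x * s⁻¹) = s * (u * x) * s⁻¹ := by rw [hy]; group
          _ = s * (x * u) * s⁻¹ := by rw [huxc.eq]
          _ = _ := by rw [hy]; group
      have hua : zpowers (u ^ a) = zpowers u := zpowers_eq_of_prime Nat.prime_three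
        (by rw [Nat.card_zpowers, huo]) (zpow_mem (mem_zpowers u) a) (fun h => hx1 (by
          rw [show x = s⁻¹ * (s * x * s⁻¹) * s by group, hsxs, h]; group))
      obtain ⟨b, hb⟩ := mem_zpowers_iff.1 (hua.ge (mem_zpowers u))
      have hyu' : Commute y u := hb ▸ hyu.zpow_right b
      have hyx : Commute y x := by
        obtain ⟨d, hd⟩ := mem_zpowers_iff.1 hsu
        have he' : s * y * s⁻¹ = x ^ d := by
          rw [hd, hy, show s * (s * u * s⁻¹) * s⁻¹ = s ^ 3 * (s⁻¹ * u * s) * (s ^ 3)⁻¹ by rw [pow_three' s]; group, hs3]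
          group
        have h1 : Commute (s * y * s⁻¹) y := by
          calc s * y * s⁻¹ * y = s * (y * u) * s⁻¹ := by rw [hy]; group
            _ = s * (u * y) * s⁻¹ := by rw [hyu'.eq]
            _ = y * (s * y * s⁻¹) := by rw [hy]; group
        rw [he'] at h1
        have hxd : zpowers (x ^ d) = zpowers x := by rw [hd]; exact hXeq
        obtain ⟨d', hd'⟩ := mem_zpowers_iff.1 (hxd.ge (mem_zpowers x))
        exact (hd' ▸ h1.zpow_left d').symm
      have hyT : y ∈ (T : Subgroup G) := by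
        rw [← centralizer_sylowThree hN T]
        have hle := hgen (centralizer ({y} : Set G)) (mem_centralizer_singleton_iff.2 hyx.eq.symm)
          (mem_centralizer_singleton_iff.2 hyu'.eq.symm)
        exact mem_centralizer_iff.2 fun t ht => mem_centralizer_singleton_iff.1 (hle ht)
      have hsN : s ∈ normalizer ((T : Subgroup G) : Set G) := by
        have hle : (T : Subgroup G) ≤ MulAut.conj s⁻¹ • (T : Subgroup G) := by
          refine hgen _ ?_ ?_ <;> rw [mem_pointwise_smul_iff_inv_smul_mem]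
          · change (MulAut.conj s⁻¹)⁻¹ x ∈ (T : Subgroup G)
            rw [map_inv, inv_inv, MulAut.conj_apply, hsxs]
            exact zpow_mem huT a
          · change (MulAut.conj s⁻¹)⁻¹ u ∈ (T : Subgroup G)
            rw [map_inv, inv_inv, MulAut.conj_apply]
            exact hyT
        have heq : MulAut.conj s⁻¹ • (T : Subgroup G) = T := (eq_of_le_of_card_ge hle (by
          rw [← Nat.card_congr (equivSMul (MulAut.conj s⁻¹) (T : Subgroup G)).toEquiv])).symm
        have h := smul_eq_self_iff.1 (Sylow.ext (by rw [Sylow.coe_subgroup_smul]; exact heq) :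
          s⁻¹ • T = T)
        rw [← inv_inv s]
        exact inv_mem h
      have hsT : s ∈ (T : Subgroup G) := by
        obtain ⟨k, -, hk⟩ := (Nat.dvd_prime_pow Nat.prime_three).1
          (show orderOf s ∣ 3 ^ 1 from orderOf_dvd_of_pow_eq_one (by rw [pow_one]; exact hs3))
        have hp : IsPGroup 3 (zpowers s) := IsPGroup.of_card (n := k) (by rw [Nat.card_zpowers, hk])
        exact (hp.inf_normalizer_sylow T ▸ ⟨mem_zpowers s, hsN⟩ : s ∈ zpowers s ⊓ (T : Subgroup G)).2
      apply hux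
      have hcs : Commute s u := sylowThree_comm hN T hsT huT
      rwa [show s⁻¹ * u * s = u by rw [mul_assoc, ← hcs.eq, inv_mul_cancel_left]] at hsu
    · -- the commutator is the central involution
      have h1 : qb * vb * qb⁻¹ * vb = π ⟨z, pow_mem hqCz 2⟩ := by
        calc qb * vb * qb⁻¹ * vb = qb * (vb * qb * vb⁻¹)⁻¹ := by rw [mul_inv_rev, mul_inv_rev, inv_inv, hvi]; group
          _ = qb * (qb ^ 3)⁻¹ := by rw [← he]
          _ = qb ^ 2 * (qb ^ 4)⁻¹ := by group
          _ = qb ^ 2 := by rw [hqb4, inv_one, mul_one]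
          _ = _ := by rw [hqb, ← map_pow]; rfl
      have h2 : π (⟨q, hqCz⟩ * ⟨v₀, hv₀Cz⟩ * (⟨q, hqCz⟩ : Cz)⁻¹ * ⟨v₀, hv₀Cz⟩ * ⟨z, pow_mem hqCz 2⟩) = 1 := by
        rw [map_mul, map_mul, map_mul, map_mul, map_inv, h1, ← map_mul,
          show (⟨z, pow_mem hqCz 2⟩ : Cz) * ⟨z, pow_mem hqCz 2⟩ = 1 from Subtype.ext hz2, map_one]
      exact (hmem _).1 h2
  -- the generators
  let y : ℕ → G := fun i => if i = 0 then x else if i = 1 then q * v₀ * q⁻¹ else if i = 2 then v₀ * z
    else if i = 3 then z * u else z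
  have hy0 : y 0 = x := rfl
  have hy1 : y 1 = q * v₀ * q⁻¹ := rfl
  have hy2 : y 2 = v₀ * z := rfl
  have hy3 : y 3 = z * u := rfl
  have hy4 : y 4 = z := rfl
  have hinvx : ∀ g : G, g * x * g⁻¹ = x⁻¹ → g * g = 1 → (x * g) ^ 2 = 1 := by
    intro g h hg
    rw [pow_two, show x * g * (x * g) = x * (g * x * g⁻¹) * (g * g) by group, h, hg]
    group
  have hy22 : v₀ * z * (v₀ * z) = 1 := by
    rw [mul_assoc, ← mul_assoc z v₀ z, hv₀z.eq, mul_assoc v₀ z z, hz2, mul_one, hv₀2]
  have hy33 : z * u * (z * u) = 1 := by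
    rw [← mul_assoc, hzinv u huT, inv_mul_cancel]
  have hy11 : q * v₀ * q⁻¹ * (q * v₀ * q⁻¹) = 1 := by
    rw [show q * v₀ * q⁻¹ * (q * v₀ * q⁻¹) = q * (v₀ * v₀) * q⁻¹ by group, hv₀2]; group
  have hrel : Present.AltRel y 5 := by
    refine ⟨fun _ => hx3, fun i hi1 hi5 => ?_, fun i hi => ?_, fun i j hij hj => ?_⟩
    · interval_cases i
      · exact hy11
      · exact hy22
      · exact hy33
      · exact hz2
    · obtain hi4 : i = 0 ∨ i = 1 ∨ i = 2 ∨ i = 3 := by omega
      rcases hi4 with rfl | rfl | rfl | rfl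
      · rw [hy0, hy1, show x * (q * v₀ * q⁻¹) = q * (q⁻¹ * x * q * v₀) * q⁻¹ by group, conj_pow, hqxq,
          hcube _ (inv_mem huT) (by rw [inv_pow, hu3, inv_one]) (fun h => hux (by
            simpa using inv_mem h))]
        group
      · rw [hy1, hy2, ← mul_assoc]
        obtain ⟨n, hn⟩ := mem_zpowers_iff.1 hkey
        rw [← hn, ← zpow_natCast, ← zpow_mul, mul_comm, zpow_mul, zpow_natCast, ← hwo, pow_orderOf_eq_one,
          one_zpow]
      · rw [hy2, hy3, show v₀ * z * (z * u) = u⁻¹ * (u * (v₀ * (z * z))) * u by group, hz2, mul_one]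
        conv_lhs => arg 1; arg 2; rw [← inv_inv u]
        rw [conj_pow, hcube u huT hu3 hux]
        group
      · rw [hy3, hy4, mul_assoc, ← mul_assoc, hzinv u huT, inv_pow, hu3, inv_one]
    · have hij' : (i = 0 ∧ j = 2) ∨ (i = 0 ∧ j = 3) ∨ (i = 0 ∧ j = 4) ∨ (i = 1 ∧ j = 3) ∨ (i = 1 ∧ j = 4) ∨
          (i = 2 ∧ j = 4) := by omega
      have hsq : ∀ a b : G, a * a = 1 → b * b = 1 → Commute a b → (a * b) ^ 2 = 1 := fun a b ha hb h => by
        rw [h.mul_pow, pow_two, pow_two, ha, hb, one_mul]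
      rcases hij' with ⟨rfl, rfl⟩ | ⟨rfl, rfl⟩ | ⟨rfl, rfl⟩ | ⟨rfl, rfl⟩ | ⟨rfl, rfl⟩ | ⟨rfl, rfl⟩
      · refine hinvx _ ?_ hy22
        calc v₀ * z * x * (v₀ * z)⁻¹ = v₀ * (z * x * z⁻¹) * v₀⁻¹ := by group
          _ = v₀ * x⁻¹ * v₀⁻¹ := by rw [hz, D.hinv x hxT]
          _ = x⁻¹ := mul_inv_eq_iff_eq_mul.2 hv₀x.inv_right.eq
      · refine hinvx _ ?_ hy33
        calc z * u * x * (z * u)⁻¹ = z * (u * x * u⁻¹) * z⁻¹ := by group
          _ = z * x * z⁻¹ := by rw [mul_inv_eq_iff_eq_mul.2 (sylowThree_comm hN T huT hxT)]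
          _ = x⁻¹ := by rw [hz]; exact D.hinv x hxT
      · exact hinvx _ (show z * x * z⁻¹ = x⁻¹ from D.hinv x hxT) hz2
      · refine hsq _ _ hy11 hy33 ?_
        change q * v₀ * q⁻¹ * (z * u) = z * u * (q * v₀ * q⁻¹)
        have hv' : Commute v₀ (z * x) := hv₀z.symm.mul_right hv₀x
        have he' : z * u = q * (z * x) * q⁻¹ := by
          rw [hu, ← mul_assoc q z x, ← hzq.eq]; group
        calc q * v₀ * q⁻¹ * (z * u) = q * (v₀ * (z * x)) * q⁻¹ := by rw [he']; group
          _ = q * ((z * x) * v₀) * q⁻¹ := by rw [hv'.eq]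
          _ = _ := by rw [he']; group
      · refine hsq _ _ hy11 hz2 ?_
        exact ((hzq.symm.mul_left hv₀z.symm).mul_left hzq.symm.inv_left)
      · exact hsq _ _ hy22 hz2 (hv₀z.symm.mul_left (Commute.refl z))
  set H := Present.firstGen y 5 with hH
  have hyH : ∀ i, i < 5 → y i ∈ H := fun i hi => Present.mem_firstGen y hi
  have hxH : x ∈ H := hy0 ▸ hyH 0 (by norm_num)
  have hzH : z ∈ H := hy4 ▸ hyH 4 (by norm_num)
  have huH : u ∈ H := by
    have h := mul_mem hzH (hy3 ▸ hyH 3 (by norm_num) : z * u ∈ H)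
    rwa [← mul_assoc, hz2, one_mul] at h
  have hv₀H : v₀ ∈ H := by
    have h := mul_mem (hy2 ▸ hyH 2 (by norm_num) : v₀ * z ∈ H) hzH
    rwa [mul_assoc, hz2, mul_one] at h
  have hTH : (T : Subgroup G) ≤ H := hgen H hxH huH
  have hVH : V ≤ H := by
    have ha : u * v₀ * u⁻¹ ∈ V := (mem_normalizer_iff.1 (hVnorm (hTC huT)) v₀).1 hv₀
    have ha1 : u * v₀ * u⁻¹ ≠ 1 := fun h => hv₀1 (conj_eq_one_iff.1 h)
    have hne : u * v₀ * u⁻¹ ≠ v₀ := fun h => hux (hline v₀ hv₀ hv₀1 u huT (mul_inv_eq_iff_eq_mul.1 h).symm)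
    have hV4 : four _ _ (hVsq _ ha) hv₀2 (hVcomm _ ha _ hv₀) = V :=
      eq_of_le_of_card_ge (fun s hs => by
        rcases mem_four.1 hs with rfl | rfl | rfl | rfl
        · exact one_mem V
        · exact ha
        · exact hv₀
        · exact mul_mem ha hv₀) (by rw [card_four ha1 hv₀1 hne, hVc])
    rw [← hV4]
    intro s hs
    have haH : u * v₀ * u⁻¹ ∈ H := mul_mem (mul_mem huH hv₀H) (inv_mem huH)
    rcases mem_four.1 hs with rfl | rfl | rfl | rfl
    · exact one_mem H
    · exact haH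
    · exact hv₀H
    · exact mul_mem haH hv₀H
  have hCH : C ≤ H := by
    have h36 : 36 ∣ Nat.card ↥(H ⊓ C) := Nat.Coprime.mul_dvd_of_dvd_of_dvd (show Nat.Coprime 9 4 by norm_num)
      (hTc ▸ card_dvd_of_le (le_inf hTH hTC)) (hVc ▸ card_dvd_of_le (le_inf hVH hVC))
    exact (eq_of_le_of_card_ge inf_le_right (by
      rw [hCc]; exact Nat.le_of_dvd Nat.card_pos h36)).ge.trans inf_le_left
  have hzC' : z ∉ C := fun h => hx1 (D.eq_one_of_fixed hN hxT (by
    rw [← hz]; exact mul_inv_eq_iff_eq_mul.2 (mem_centralizer_singleton_iff.1 h)))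
  have h72 : 72 ∣ Nat.card H := by
    set M := normalizer (V : Set G) ⊓ H with hM
    have hCM : C ≤ M := le_inf hVnorm hCH
    have hzM : z ∈ M := by
      refine ⟨mem_normalizer_iff.2 fun v => ⟨fun h => by rw [hzi]; exact hzV v h, fun h => ?_⟩, hzH⟩
      have h' := hzV _ h
      rwa [hzi, show z * (z * v * z) * z = (z * z) * v * (z * z) by group, hz2, one_mul, mul_one] at h'
    have hM36 : 36 ∣ Nat.card M := by rw [← hCc]; exact card_dvd_of_le hCM
    have hM57 : ∀ p, p = 5 ∨ p = 7 → ¬ p ∣ Nat.card M := by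
      intro p hp57 hdvd
      have hp : p.Prime := by rcases hp57 with rfl | rfl <;> norm_num
      have : Fact p.Prime := ⟨hp⟩
      obtain ⟨⟨g, hg⟩, hgo⟩ := exists_prime_orderOf_dvd_card' (G := M) p hdvd
      rw [orderOf_mk] at hgo
      have hd : orderOf (normalizerMonoidHom V ⟨g, hg.1⟩) ∣ p := by
        have := orderOf_map_dvd (normalizerMonoidHom V) ⟨g, hg.1⟩
        rwa [orderOf_mk, hgo] at this
      have h1 : orderOf (normalizerMonoidHom V ⟨g, hg.1⟩) = 1 := by
        rcases (Nat.dvd_prime hp).1 hd with h | h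
        · exact h
        · exfalso
          have hd' := _root_.orderOf_dvd_natCard (normalizerMonoidHom V ⟨g, hg.1⟩)
          rw [h] at hd'
          have := prime_dvd_card_mulAut Nat.prime_two hp (A := ↥V) (by rw [hVc]; norm_num) hd'
          rcases hp57 with rfl | rfl <;> norm_num at this
      rw [orderOf_eq_one_iff, ← MonoidHom.mem_ker, normalizerMonoidHom_ker] at h1
      have hgV : g ∈ centralizer (V : Set G) := h1
      have hd2 := orderOf_dvd_natCard (centralizer ({v₀} : Set G))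
        (mem_centralizer_singleton_iff.2 (mem_centralizer_iff.1 hgV v₀ hv₀).symm)
      rw [hgo, ← hCv, hCv24] at hd2
      rcases hp57 with rfl | rfl <;> omega
    have hMne : Nat.card M ≠ 36 := fun h => hzC' ((eq_of_le_of_card_ge hCM (by rw [h, hCc])).ge hzM)
    have hMc : Nat.card M = 72 :=
      (by decide +kernel : ∀ n ∈ Nat.divisors 2520, 36 ∣ n → n ≠ 36 → ¬ 5 ∣ n → ¬ 7 ∣ n → n = 72) _
        (Nat.mem_divisors.2 ⟨hN ▸ card_subgroup_dvd_card M, by norm_num⟩) hM36 hMne
        (hM57 5 (Or.inl rfl)) (hM57 7 (Or.inr rfl))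
    exact hMc ▸ card_dvd_of_le inf_le_right
  have hcases : Nat.card H = 72 ∨ Nat.card H = 360 ∨ H = ⊤ := by
    by_cases htop : H = ⊤
    · exact Or.inr (Or.inr htop)
    have hfact := two_mul_card_dvd_factorial hG htop
    rw [hN] at hfact
    have h7 : 7 ≤ H.index := by
      by_contra hlt
      have h6 : 2 * 2520 ∣ (6 : ℕ).factorial := hfact.trans (Nat.factorial_dvd_factorial (by omega))
      norm_num [Nat.factorial] at h6
    have hle : Nat.card H ≤ 360 := by
      have hm := H.card_mul_index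
      rw [hN] at hm
      nlinarith
    rcases (by decide +kernel : ∀ n ∈ Nat.divisors 2520, 72 ∣ n → n ≤ 360 → n = 72 ∨ n = 360) _
      (Nat.mem_divisors.2 ⟨hN ▸ card_subgroup_dvd_card H, by norm_num⟩) h72 hle with h | h
    · exact Or.inl h
    · exact Or.inr (Or.inl h)
  rcases hcases with h | h | h
  · -- order `72` is impossible
    exfalso
    set y1 := q * v₀ * q⁻¹ with hy1d
    have hy1H : y1 ∈ H := hy1 ▸ hyH 1 (by norm_num)
    have hidx : (C.subgroupOf H).index = 2 := by
      have hm := (C.subgroupOf H).card_mul_index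
      rw [Nat.card_congr (subgroupOfEquivOfLe hCH).toEquiv, hCc, h] at hm
      omega
    have hn := normal_of_index_eq_two hidx
    have hconjC : ∀ g ∈ C, y1 * g * y1⁻¹ ∈ C := fun g hg =>
      hn.conj_mem ⟨g, hCH hg⟩ (mem_subgroupOf.2 hg) ⟨y1, hy1H⟩
    have hconjC' : ∀ g ∈ C, y1⁻¹ * g * y1 ∈ C := fun g hg => by
      have := hn.conj_mem ⟨g, hCH hg⟩ (mem_subgroupOf.2 hg) ⟨y1⁻¹, inv_mem hy1H⟩
      simpa [mem_subgroupOf] using this
    set x' := y1 * x * y1⁻¹ with hx'
    have hx'C : ∀ g ∈ C, Commute x' g := fun g hg => by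
      have h' := mem_centralizer_singleton_iff.1 (hconjC' g hg)
      calc x' * g = y1 * (x * (y1⁻¹ * g * y1)) * y1⁻¹ := by rw [hx']; group
        _ = y1 * (y1⁻¹ * g * y1 * x) * y1⁻¹ := by rw [h']
        _ = g * x' := by rw [hx']; group
    have hx'T : x' ∈ (T : Subgroup G) := by
      rw [← centralizer_sylowThree hN T]
      exact mem_centralizer_iff.2 fun t ht => (hx'C t (hTC ht)).eq.symm
    have hy1u : Commute y1 u := by
      change q * v₀ * q⁻¹ * u = u * (q * v₀ * q⁻¹)
      calc q * v₀ * q⁻¹ * u = q * (v₀ * x) * q⁻¹ := by rw [hu]; group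
        _ = q * (x * v₀) * q⁻¹ := by rw [hv₀x.eq]
        _ = _ := by rw [hu]; group
    have hy1N : y1 ∈ normalizer ((T : Subgroup G) : Set G) := by
      have hle : (T : Subgroup G) ≤ MulAut.conj y1⁻¹ • (T : Subgroup G) := by
        refine hgen _ ?_ ?_ <;> rw [mem_pointwise_smul_iff_inv_smul_mem]
        · change (MulAut.conj y1⁻¹)⁻¹ x ∈ (T : Subgroup G)
          rw [map_inv, inv_inv, MulAut.conj_apply]
          exact hx'T
        · change (MulAut.conj y1⁻¹)⁻¹ u ∈ (T : Subgroup G)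
          rw [map_inv, inv_inv, MulAut.conj_apply, mul_inv_eq_iff_eq_mul.2 hy1u.eq]
          exact huT
      have heq : MulAut.conj y1⁻¹ • (T : Subgroup G) = T := (eq_of_le_of_card_ge hle (by
        rw [← Nat.card_congr (equivSMul (MulAut.conj y1⁻¹) (T : Subgroup G)).toEquiv])).symm
      have h := smul_eq_self_iff.1 (Sylow.ext (by rw [Sylow.coe_subgroup_smul]; exact heq) :
        y1⁻¹ • T = T)
      rw [← inv_inv y1]
      exact inv_mem h
    have hy1o : orderOf y1 = 2 := by
      rw [hy1d, show q * v₀ * q⁻¹ = MulAut.conj q v₀ by simp, MulEquiv.orderOf_eq, hv₀o]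
    exact hnotT y1 hy1o (D.mem_of_commute hN hy1N huT hu1 hy1u)
  · refine ⟨H, ?_⟩
    have hm := H.card_mul_index
    rw [h, hN] at hm
    omega
  · refine ⟨Present.firstGen y 4, ?_⟩
    have hb := firstGen_five_bound hrel
    obtain ⟨-, h4⟩ := Present.firstGen_bound hrel 4 (by norm_num)
    rw [← hH, h] at hb
    have hH4 : ((Present.firstGen y 4 : Subgroup G) : Set G).ncard = Nat.card (Present.firstGen y 4) :=
      (Nat.card_coe_set_eq _).symm
    have htopc : ((⊤ : Subgroup G) : Set G).ncard = 2520 := by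
      rw [coe_top, Set.ncard_univ, hN]
    rw [htopc, hH4] at hb
    rw [hH4] at h4
    norm_num [Nat.factorial] at h4
    have h360 : Nat.card (Present.firstGen y 4) = 360 := by omega
    have hm := (Present.firstGen y 4).card_mul_index
    rw [h360, hN] at hm
    omega

/-- A simple group of order `2520` is isomorphic to `A₇`. -/
theorem iso_alternating_seven (hN : Nat.card G = 2520) : Nonempty (G ≃* alternatingGroup (Fin 7)) := by
  obtain ⟨H, hH⟩ := exists_index_seven hN
  have hne : H ≠ ⊤ := fun h => by rw [h, index_top] at hH; omega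
  obtain ⟨f, hf⟩ := exists_embedding_alternating (not_comm hN) hne
  revert f
  rw [hH]
  intro f hf
  have hcard : Nat.card G = Nat.card (alternatingGroup (Fin 7)) := by
    rw [hN, nat_card_alternatingGroup, Nat.card_fin]
    norm_num [Nat.factorial]
  exact ⟨MulEquiv.ofBijective f ((Nat.bijective_iff_injective_and_card f).2 ⟨hf, hcard⟩)⟩

end CfsgLib.SmallOrder.AltSeven
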