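import Cfsg.Agent.Lib.SmallOrder.AltSeven.Frame

/-!
Simple groups of order `2520`: the normaliser of a Sylow `3`-subgroup, the order of the centraliser of an
involution, and an element of order three with centraliser of order `36`.
-/

set_option autoImplicit false

namespace CfsgLib.SmallOrder.AltSeven

open Subgroup Pointwise

variable {G : Type*} [Group G] [Finite G] [IsSimpleGroup G]

/-- A Sylow `3`-subgroup with an element of order four acting on it. -/
structure Pair (G : Type*) [Group G] where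
  /-- the Sylow subgroup -/
  T : Sylow 3 G
  /-- the element -/
  q : G
  hq : q ∈ normalizer ((T : Subgroup G) : Set G)
  hqo : orderOf q = 4
  hinv : ∀ t ∈ (T : Subgroup G), q ^ 2 * t * (q ^ 2)⁻¹ = t⁻¹

theorem exists_pair (hN : Nat.card G = 2520) : Nonempty (Pair G) := by
  obtain ⟨T⟩ := (inferInstance : Nonempty (Sylow 3 G))
  obtain ⟨q, h1, h2, h3⟩ := exists_q hN T
  exact ⟨⟨T, q, h1, h2, h3⟩⟩

namespace Pair

variable (D : Pair G)

omit [Finite G] [IsSimpleGroup G] in
theorem q_four : D.q ^ 4 = 1 := by rw [← D.hqo, pow_orderOf_eq_one]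

omit [IsSimpleGroup G] in
theorem sq_order : orderOf (D.q ^ 2) = 2 := by
  rw [orderOf_pow' _ two_ne_zero, D.hqo]
  norm_num

omit [Finite G] [IsSimpleGroup G] in
theorem conj_mem {t : G} (ht : t ∈ (D.T : Subgroup G)) : D.q * t * D.q⁻¹ ∈ (D.T : Subgroup G) :=
  (mem_normalizer_iff.1 D.hq t).1 ht

omit [IsSimpleGroup G] in
theorem coprime_eq_one (hN : Nat.card G = 2520) {g : G} (hg : g ∈ (D.T : Subgroup G)) (h4 : g ^ 4 = 1) : g = 1 := by
  have h9 := orderOf_dvd_natCard (D.T : Subgroup G) hg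
  rw [sylowThree_card hN D.T] at h9
  exact orderOf_eq_one_iff.1 (Nat.eq_one_of_dvd_coprimes (by norm_num : Nat.Coprime 4 9)
    (orderOf_dvd_of_pow_eq_one h4) h9)

/-- The normaliser is `T ⟨q⟩`. -/
theorem exists_decomp (hN : Nat.card G = 2520) {g : G} (hg : g ∈ normalizer ((D.T : Subgroup G) : Set G)) :
    ∃ t ∈ (D.T : Subgroup G), ∃ j, j < 4 ∧ g = t * D.q ^ j := by
  have : Fact (Nat.Prime 3) := ⟨Nat.prime_three⟩
  let F : ↥(D.T : Subgroup G) × Fin 4 → ↥(normalizer ((D.T : Subgroup G) : Set G)) :=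
    fun z => ⟨z.1.1 * D.q ^ (z.2 : ℕ), mul_mem (le_normalizer z.1.2) (pow_mem D.hq _)⟩
  have key : ∀ (t t' : ↥(D.T : Subgroup G)) (i j : Fin 4), i.1 ≤ j.1 →
      (t : G) * D.q ^ i.1 = t' * D.q ^ j.1 → (t, i) = (t', j) := by
    intro t t' i j hij h
    have he : D.q ^ (j.1 - i.1) = (t' : G)⁻¹ * t := by
      rw [eq_inv_mul_iff_mul_eq]
      refine mul_right_cancel (b := D.q ^ i.1) ?_
      rw [mul_assoc, ← pow_add, Nat.sub_add_cancel hij, h]
    have h1 := D.coprime_eq_one hN (he ▸ mul_mem (inv_mem t'.2) t.2)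
      (by rw [← pow_mul, mul_comm, pow_mul, D.q_four, one_pow])
    have h2 := orderOf_dvd_of_pow_eq_one h1
    rw [D.hqo] at h2
    have hji : i = j := Fin.ext (by omega)
    subst hji
    exact Prod.ext (Subtype.ext (mul_right_cancel h)) rfl
  have hF : Function.Bijective F := by
    refine (Nat.bijective_iff_injective_and_card F).2 ⟨?_, ?_⟩
    · rintro ⟨b, i⟩ ⟨b', j⟩ h
      have h' : (b : G) * D.q ^ i.1 = b' * D.q ^ j.1 := congrArg Subtype.val h
      rcases le_total i.1 j.1 with hij | hij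
      · exact key b b' i j hij h'
      · exact (key b' b j i hij h'.symm).symm
    · rw [Nat.card_prod, sylowThree_card hN D.T, Nat.card_fin, (sylowThree_number hN D.T).2]
  obtain ⟨⟨t, j⟩, hz⟩ := hF.2 ⟨g, hg⟩
  exact ⟨t, t.2, j, j.2, (congrArg Subtype.val hz).symm⟩

omit [IsSimpleGroup G] in
/-- An element of `T` inverted and fixed is trivial. -/
theorem eq_one_of_fixed (hN : Nat.card G = 2520) {x : G} (hx : x ∈ (D.T : Subgroup G))
    (h : D.q ^ 2 * x * (D.q ^ 2)⁻¹ = x) : x = 1 := by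
  rw [D.hinv x hx, inv_eq_iff_mul_eq_one] at h
  exact D.coprime_eq_one hN hx (by rw [show (4 : ℕ) = 2 * 2 from rfl, pow_mul, pow_two x, h, one_pow])

/-- Elements of the normaliser centralising a non-trivial element of `T` lie in `T`. -/
theorem mem_of_commute (hN : Nat.card G = 2520) {g x : G} (hg : g ∈ normalizer ((D.T : Subgroup G) : Set G))
    (hx : x ∈ (D.T : Subgroup G)) (hx1 : x ≠ 1) (hgx : Commute g x) : g ∈ (D.T : Subgroup G) := by
  obtain ⟨t, ht, j, hj, rfl⟩ := D.exists_decomp hN hg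
  have htx : Commute t x := sylowThree_comm hN D.T ht hx
  have hqx : Commute (D.q ^ j) x := by
    have h := htx.inv_left.mul_left hgx
    rwa [inv_mul_cancel_left] at h
  have h2 : ¬ Commute (D.q ^ 2) x := fun h => hx1 (D.eq_one_of_fixed hN hx (mul_inv_eq_iff_eq_mul.2 h.eq))
  interval_cases j
  · simpa using ht
  · exact absurd (hqx.pow_left 2) (by rwa [pow_one])
  · exact absurd hqx h2
  · exfalso
    have h6 := hqx.pow_left 2
    rw [← pow_mul, show 3 * 2 = 4 + 2 from rfl, pow_add, D.q_four, one_mul] at h6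
    exact h2 h6

/-- The involutions of the normaliser. -/
theorem involution_form (hN : Nat.card G = 2520) {g : G} (hg : g ∈ normalizer ((D.T : Subgroup G) : Set G))
    (hgo : orderOf g = 2) : ∃ t ∈ (D.T : Subgroup G), g = t * D.q ^ 2 := by
  obtain ⟨t, ht, j, hj, rfl⟩ := D.exists_decomp hN hg
  have hsq : (t * D.q ^ j) * (t * D.q ^ j) = 1 := by rw [← pow_two, ← hgo, pow_orderOf_eq_one]
  have hq2 : D.q ^ 2 ≠ 1 := fun h => by have := D.sq_order; rw [h, orderOf_one] at this; omega
  have hmem : D.q ^ (j + j) ∈ (D.T : Subgroup G) := by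
    have hjn : D.q ^ j * t * (D.q ^ j)⁻¹ ∈ (D.T : Subgroup G) :=
      (mem_normalizer_iff.1 (pow_mem D.hq j) t).1 ht
    have he : D.q ^ (j + j) = (t * (D.q ^ j * t * (D.q ^ j)⁻¹))⁻¹ * ((t * D.q ^ j) * (t * D.q ^ j)) := by
      rw [pow_add]; group
    rw [he, hsq, mul_one]
    exact inv_mem (mul_mem ht hjn)
  have h1 := D.coprime_eq_one hN hmem (by rw [← pow_mul, mul_comm, pow_mul, D.q_four, one_pow])
  have h2 := orderOf_dvd_of_pow_eq_one h1
  rw [D.hqo] at h2
  have hj2 : j = 0 ∨ j = 2 := by omega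
  rcases hj2 with rfl | rfl
  · exfalso
    rw [pow_zero, mul_one] at hgo
    have h9 := orderOf_dvd_natCard (D.T : Subgroup G) ht
    rw [hgo, sylowThree_card hN D.T] at h9
    norm_num at h9
  · exact ⟨t, ht, rfl⟩

omit [IsSimpleGroup G] in
theorem involution_mk {t : G} (hN : Nat.card G = 2520) (ht : t ∈ (D.T : Subgroup G)) :
    orderOf (t * D.q ^ 2) = 2 := by
  have : Fact (Nat.Prime 2) := ⟨Nat.prime_two⟩
  refine orderOf_eq_prime ?_ ?_
  · have h := D.hinv t ht
    rw [pow_two (t * D.q ^ 2)]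
    calc t * D.q ^ 2 * (t * D.q ^ 2) = t * (D.q ^ 2 * t * (D.q ^ 2)⁻¹) * (D.q ^ 2 * D.q ^ 2) := by group
      _ = 1 := by rw [h, ← pow_add, D.q_four]; group
  · intro h
    have hmem : D.q ^ 2 ∈ (D.T : Subgroup G) := (eq_inv_of_mul_eq_one_right h) ▸ inv_mem ht
    have h1 := D.coprime_eq_one hN hmem (by rw [← pow_mul, mul_comm, pow_mul, D.q_four, one_pow])
    have := D.sq_order
    rw [h1, orderOf_one] at this
    omega

/-- The number of fixed points of `q ^ 2` on the Sylow `3`-subgroups. -/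
theorem card_fixed (hN : Nat.card G = 2520) :
    4 * Nat.card (MulAction.fixedBy (G ⧸ normalizer ((D.T : Subgroup G) : Set G)) (D.q ^ 2)) =
      Nat.card ↥(centralizer ({D.q ^ 2} : Set G)) := by
  have : Fact (Nat.Prime 3) := ⟨Nat.prime_three⟩
  set N := normalizer ((D.T : Subgroup G) : Set G) with hNdef
  have h := card_fixedBy_mul_card_class N (D.q ^ 2)
  have hidx : N.index = 70 := D.T.card_eq_index_normalizer.symm.trans (sylowThree_number hN D.T).1
  have hm : Nat.card {g : G // IsConj (D.q ^ 2) g ∧ g ∈ N} = 9 := by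
    rw [← sylowThree_card hN D.T]
    symm
    refine Nat.card_eq_of_bijective (fun t : ↥(D.T : Subgroup G) => (⟨(t : G) * D.q ^ 2,
      (involution hN).1 _ _ D.sq_order (D.involution_mk hN t.2),
      mul_mem (le_normalizer t.2) (pow_mem D.hq 2)⟩ : {g : G // IsConj (D.q ^ 2) g ∧ g ∈ N}))
      ⟨fun a b hab => Subtype.ext (mul_right_cancel (congrArg Subtype.val hab)), ?_⟩
    rintro ⟨g, hg, hgN⟩
    obtain ⟨a, ha⟩ := isConj_iff.1 hg
    obtain ⟨t, ht, hte⟩ := D.involution_form hN hgN (by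
      rw [← ha, show a * D.q ^ 2 * a⁻¹ = MulAut.conj a (D.q ^ 2) by simp, MulEquiv.orderOf_eq, D.sq_order])
    exact ⟨⟨t, ht⟩, Subtype.ext hte.symm⟩
  have hc := Invol.card_isConj_eq_index (D.q ^ 2)
  have hmul := (centralizer ({D.q ^ 2} : Set G)).card_mul_index
  rw [← hc, hN] at hmul
  rw [hidx, hm] at h
  set f := Nat.card (MulAction.fixedBy (G ⧸ N) (D.q ^ 2))
  set k := Nat.card {g : G // IsConj (D.q ^ 2) g}
  set m := Nat.card ↥(centralizer ({D.q ^ 2} : Set G))
  have hk : 0 < k := by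
    rcases Nat.eq_zero_or_pos k with h0 | h0
    · rw [h0, mul_zero] at hmul; omega
    · exact h0
  refine Nat.eq_of_mul_eq_mul_right hk ?_
  rw [mul_assoc, h, hmul]
  all_goals norm_num

/-- The centraliser of an involution has order `24`. -/
theorem card_centralizer_sq (hN : Nat.card G = 2520) :
    Nat.card ↥(centralizer ({D.q ^ 2} : Set G)) = 24 := by
  classical
  have : Fact (Nat.Prime 3) := ⟨Nat.prime_three⟩
  rcases involution_centralizer' hN D.sq_order with h8 | h24
  swap; · exact h24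
  exfalso
  cases nonempty_fintype G
  set N := normalizer ((D.T : Subgroup G) : Set G) with hNdef
  have hf := D.card_fixed hN
  rw [← hNdef, h8] at hf
  have hidx : N.index = 70 := D.T.card_eq_index_normalizer.symm.trans (sylowThree_number hN D.T).1
  have := Fintype.ofFinite (G ⧸ N)
  set x₀ : G ⧸ N := QuotientGroup.mk 1 with hx₀
  have hbase : ∀ u ∈ N, u • x₀ = x₀ := fun u hu => by
    rw [hx₀, MulAction.Quotient.smul_mk, QuotientGroup.eq, smul_eq_mul, mul_one, mul_one]
    exact inv_mem hu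
  obtain ⟨a, b, hab, huniv⟩ := (Nat.card_eq_two_iff
    (α := MulAction.fixedBy (G ⧸ N) (D.q ^ 2))).1 (by omega)
  have hmem : ∀ c : G ⧸ N, D.q ^ 2 • c = c → c = a.1 ∨ c = b.1 := fun c hc => by
    have h := Set.eq_univ_iff_forall.1 huniv ⟨c, hc⟩
    rcases h with h | h
    · exact Or.inl (congrArg Subtype.val h)
    · exact Or.inr (congrArg Subtype.val h)
  have hab' : a.1 ≠ b.1 := fun h => hab (Subtype.ext h)
  have hqfix : ∀ c : G ⧸ N, D.q ^ 2 • c = c → D.q • c = c := by
    intro c hc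
    have hqc : D.q ^ 2 • (D.q • c) = D.q • c := by
      rw [← mul_smul, ← pow_succ, pow_succ', mul_smul, hc]
    have h0 := hbase D.q D.hq
    have h0' : D.q ^ 2 • x₀ = x₀ := hbase _ (pow_mem D.hq 2)
    rcases hmem x₀ h0' with e0 | e0 <;> rcases hmem c hc with e1 | e1 <;> rcases hmem _ hqc with e2 | e2
    all_goals first
      | exact e2.trans e1.symm
      | (rw [e1.trans e0.symm]; exact h0)
      | (have hcx := MulAction.injective D.q ((e2.trans e0.symm).trans h0.symm); rw [hcx]; exact h0)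
  let α := {c : G ⧸ N // D.q ^ 2 • c ≠ c}
  let _ : MulAction (zpowers D.q) α :=
    { smul := fun u c => ⟨(u : G) • c.1, fun h => c.2 (by
        have hcom : Commute (D.q ^ 2) (u : G) := by
          obtain ⟨n, hn⟩ := mem_zpowers_iff.1 u.2
          rw [← hn]
          exact ((Commute.refl D.q).pow_left 2).zpow_right n
        refine MulAction.injective (u : G) ?_
        change (u : G) • D.q ^ 2 • c.1 = (u : G) • c.1
        rw [← mul_smul, ← hcom.eq, mul_smul, h])⟩
      one_smul := fun c => Subtype.ext (one_smul G c.1)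
      mul_smul := fun u v c => Subtype.ext (mul_smul (u : G) v c.1) }
  have hfree : ∀ (u : zpowers D.q) (c : α), u • c = c → u = 1 := by
    intro u c huc
    have hu : (u : G) • c.1 = c.1 := congrArg Subtype.val huc
    obtain ⟨n, hn⟩ := mem_powers_iff_mem_zpowers.2 u.2
    change D.q ^ n = (u : G) at hn
    by_contra hu1
    rw [← hn, ← pow_mod_orderOf, D.hqo] at hu
    have hlt : n % 4 < 4 := Nat.mod_lt _ (by norm_num)
    have hne : n % 4 ≠ 0 := fun h => hu1 (Subtype.ext (by
      rw [← hn, ← pow_mod_orderOf, D.hqo, h, pow_zero]; rfl))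
    apply c.2
    have hsq : (D.q ^ (n % 4) * D.q ^ (n % 4)) • c.1 = c.1 := by rw [mul_smul, hu, hu]
    rcases (show n % 4 = 1 ∨ n % 4 = 2 ∨ n % 4 = 3 by omega) with e | e | e <;> rw [e] at hsq hu
    · rwa [← pow_add] at hsq
    · exact hu
    · rwa [← pow_add, show 3 + 3 = 4 + 2 from rfl, pow_add, D.q_four, one_mul] at hsq
  have hcard : Fintype.card α = 17 * Fintype.card (zpowers D.q) := by
    rw [← Nat.card_eq_fintype_card (α := zpowers D.q), Nat.card_zpowers, D.hqo, Fintype.card_subtype_compl,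
      ← Nat.card_eq_fintype_card (α := G ⧸ N), ← Nat.card_eq_fintype_card]
    change N.index - Nat.card (MulAction.fixedBy (G ⧸ N) (D.q ^ 2)) = 17 * 4
    omega
  have hsub := sign_of_free hfree hcard ⟨D.q, mem_zpowers D.q⟩
  rw [sign_mulLeft_four D.hqo] at hsub
  set σ : Equiv.Perm (G ⧸ N) := MulAction.toPermHom G (G ⧸ N) D.q with hσ
  have hσmem : ∀ c : G ⧸ N, D.q ^ 2 • σ c ≠ σ c ↔ D.q ^ 2 • c ≠ c := by
    intro c
    change D.q ^ 2 • D.q • c ≠ D.q • c ↔ _
    rw [← mul_smul, ← pow_succ, pow_succ', mul_smul]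
    exact (MulAction.injective D.q).ne_iff
  have hσfix : ∀ c : G ⧸ N, σ c ≠ c → D.q ^ 2 • c ≠ c := fun c hc h => hc (hqfix c h)
  have hsubeq : σ.subtypePerm hσmem =
      (MulAction.toPerm (⟨D.q, mem_zpowers D.q⟩ : zpowers D.q) : Equiv.Perm α) :=
    Equiv.ext fun c => Subtype.ext rfl
  have hs := Equiv.Perm.sign_subtypePerm σ hσmem hσfix
  rw [hsubeq, hsub, hσ, sign_eq_one (not_comm hN)] at hs
  exact absurd hs (by decide)

/-- An element of order three with centraliser of order `36`. -/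
theorem exists_x (hN : Nat.card G = 2520) :
    ∃ x ∈ (D.T : Subgroup G), orderOf x = 3 ∧ Nat.card ↥(centralizer ({x} : Set G)) = 36 := by
  have : Fact (Nat.Prime 3) := ⟨Nat.prime_three⟩
  obtain ⟨⟨w, hw⟩, hwo⟩ := exists_prime_orderOf_dvd_card' (G := ↥(centralizer ({D.q ^ 2} : Set G))) 3
    (by rw [D.card_centralizer_sq hN]; norm_num)
  rw [orderOf_mk] at hwo
  obtain ⟨R, hR⟩ := (IsPGroup.of_card (p := 3) (n := 1) (G := zpowers w)
    (by rw [Nat.card_zpowers, hwo, pow_one])).exists_le_sylow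
  obtain ⟨a, ha⟩ := MulAction.exists_smul_eq G R D.T
  set x := a * w * a⁻¹ with hx
  have hxT : x ∈ (D.T : Subgroup G) := by
    rw [← ha, Sylow.coe_subgroup_smul]
    exact smul_mem_pointwise_smul w (MulAut.conj a) _ (hR (mem_zpowers w))
  have hxo : orderOf x = 3 := by rw [hx, show a * w * a⁻¹ = MulAut.conj a w by simp, MulEquiv.orderOf_eq, hwo]
  have hx1 : x ≠ 1 := fun h => by rw [h, orderOf_one] at hxo; omega
  refine ⟨x, hxT, hxo, ?_⟩
  set C := centralizer ({x} : Set G) with hC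
  have hTC : (D.T : Subgroup G) ≤ C := fun t ht => mem_centralizer_singleton_iff.2 (sylowThree_comm hN D.T ht hxT)
  have h2 : 2 ∣ Nat.card C := by
    have hmem : a * D.q ^ 2 * a⁻¹ ∈ C := by
      refine mem_centralizer_singleton_iff.2 ?_
      have h := mem_centralizer_singleton_iff.1 hw
      calc a * D.q ^ 2 * a⁻¹ * x = a * (D.q ^ 2 * w) * a⁻¹ := by rw [hx]; group
        _ = a * (w * D.q ^ 2) * a⁻¹ := by rw [h]
        _ = x * (a * D.q ^ 2 * a⁻¹) := by rw [hx]; group
    have h := orderOf_dvd_natCard C hmem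
    rwa [show a * D.q ^ 2 * a⁻¹ = MulAut.conj a (D.q ^ 2) by simp, MulEquiv.orderOf_eq, D.sq_order] at h
  have h9 : 9 ∣ Nat.card C := sylowThree_card hN D.T ▸ card_dvd_of_le hTC
  obtain ⟨h5, h7⟩ := centralizer_local hN (g := x) hx1 (by rw [hxo]; norm_num) (by rw [hxo]; norm_num)
  set T' : Sylow 3 C := D.T.subtype hTC with hT'
  have hNT : Nat.card ↥(normalizer ((T' : Subgroup C) : Set C)) = 9 := by
    refine le_antisymm ?_ ?_
    · have hsub : (normalizer ((T' : Subgroup C) : Set C)).map C.subtype ≤ (D.T : Subgroup G) := by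
        rintro _ ⟨g, hg, rfl⟩
        have h := le_normalizer_map C.subtype (mem_map_of_mem C.subtype hg)
        rw [show (T' : Subgroup C).map C.subtype = D.T from map_subgroupOf_eq_of_le hTC] at h
        exact D.mem_of_commute hN h hxT hx1 (mem_centralizer_singleton_iff.1 g.2)
      have := card_le_of_le hsub
      rwa [card_map_of_injective C.subtype_injective, sylowThree_card hN D.T] at this
    · have := card_le_of_le (le_normalizer (H := (T' : Subgroup C)))
      have h' : Nat.card ↥(T' : Subgroup C) = 9 :=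
        (Nat.card_congr (subgroupOfEquivOfLe hTC).toEquiv).trans (sylowThree_card hN D.T)
      rwa [h'] at this
  have hmul := card_normalizer_mul T'
  rw [hNT] at hmul
  have hmod := card_sylow_modEq_one 3 C
  exact (by decide +kernel : ∀ m ∈ Nat.divisors 2520, 2 ∣ m → 9 ∣ m → ¬ 5 ∣ m → ¬ 7 ∣ m → (m / 9) % 3 = 1 →
    m = 36) _ (Nat.mem_divisors.2 ⟨hN ▸ card_subgroup_dvd_card C, by norm_num⟩) h2 h9 h5 h7
    (by rw [← hmul, Nat.mul_div_cancel_left _ (by norm_num)]; exact hmod)

end Pair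

end CfsgLib.SmallOrder.AltSeven
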