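import Cfsg.Agent.Lib.SmallOrder.AltSeven.Local
import Cfsg.Agent.Lib.DihedralEight.Recognition

/-!
Simple groups of order `2520`: an element of order four acting on a Sylow `3`-subgroup, and an element of
order three with centraliser of order `36`.
-/

set_option autoImplicit false

namespace CfsgLib.SmallOrder.AltSeven

open Subgroup Pointwise

variable {G : Type*} [Group G] [Finite G]

/-- For a free action of a cyclic group generated by `h` the sign of `h` is a power of the sign of the
translation. -/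
theorem sign_of_free {α : Type*} [Fintype α] [DecidableEq α] {H : Type*} [Group H] [Fintype H]
    [DecidableEq H] [MulAction H α] (hfree : ∀ (h : H) (c : α), h • c = c → h = 1) {k : ℕ}
    (hk : Fintype.card α = k * Fintype.card H) (h : H) :
    Equiv.Perm.sign (MulAction.toPerm h : Equiv.Perm α) = Equiv.Perm.sign (Equiv.mulLeft h) ^ k := by
  classical
  let e : MulAction.orbitRel.Quotient H α × H ≃ α := Equiv.ofBijective (fun x => x.2 • x.1.out) (by
    constructor
    · rintro ⟨ω, a⟩ ⟨ω', a'⟩ hab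
      change a • ω.out = a' • ω'.out at hab
      have hω : ω = ω' := by
        rw [← Quotient.out_eq' ω, ← Quotient.out_eq' ω']
        exact Quotient.sound' (MulAction.orbitRel_apply.2 ⟨a⁻¹ * a', by
          change (a⁻¹ * a') • ω'.out = ω.out
          rw [mul_smul, ← hab, inv_smul_smul]⟩)
      subst hω
      have h1 := hfree (a'⁻¹ * a) ω.out (by rw [mul_smul, hab, inv_smul_smul])
      rw [inv_mul_eq_one] at h1
      rw [h1]
    · intro c
      obtain ⟨a, ha⟩ := MulAction.orbitRel_apply.1
        (Quotient.exact' (Quotient.out_eq' (Quotient.mk'' c : MulAction.orbitRel.Quotient H α)))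
      exact ⟨(Quotient.mk'' c, a⁻¹), by
        change a⁻¹ • (Quotient.mk'' c : MulAction.orbitRel.Quotient H α).out = c
        rw [← ha]; exact inv_smul_smul a c⟩)
  have hconj : (MulAction.toPerm h : Equiv.Perm α) =
      e.permCongr (Equiv.prodCongrRight fun _ => Equiv.mulLeft h) := by
    ext c
    obtain ⟨⟨ω, a⟩, rfl⟩ := e.surjective c
    simp only [MulAction.toPerm_apply, Equiv.permCongr_apply, Equiv.symm_apply_apply]
    change h • a • ω.out = (h * a) • ω.out
    rw [mul_smul]
  rw [hconj, Equiv.Perm.sign_permCongr, Equiv.Perm.sign_prodCongrRight, Finset.prod_const,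
    Finset.card_univ]
  have hq : Fintype.card (MulAction.orbitRel.Quotient H α) = k := by
    have h1 := Fintype.card_congr e
    rw [Fintype.card_prod, hk] at h1
    exact Nat.eq_of_mul_eq_mul_right Fintype.card_pos h1
  rw [hq]

/-- The translation by an element of order four is an odd permutation of the group it generates. -/
theorem sign_mulLeft_four {g : G} (hg : orderOf g = 4) [Fintype (zpowers g)] [DecidableEq (zpowers g)] :
    Equiv.Perm.sign (Equiv.mulLeft (⟨g, mem_zpowers g⟩ : zpowers g)) = -1 := by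
  have hfin : IsOfFinOrder g := isOfFinOrder_of_finite g
  let e : Fin 4 ≃ zpowers g := (finCongr hg.symm).trans (finEquivZPowers hfin)
  have hconj : Equiv.mulLeft (⟨g, mem_zpowers g⟩ : zpowers g) = e.permCongr (finRotate 4) := by
    ext w
    obtain ⟨n, rfl⟩ := e.surjective w
    simp only [Equiv.coe_mulLeft, Equiv.permCongr_apply, Equiv.symm_apply_apply]
    simp only [e, Equiv.trans_apply, finEquivZPowers_apply, finCongr_apply, Subgroup.coe_mul]
    rw [← pow_succ', Fin.val_cast, Fin.val_cast, finRotate_succ_apply, Fin.val_add_one]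
    split_ifs with hl
    · rw [hl, show ((Fin.last 3 : Fin 4) : ℕ) + 1 = orderOf g by rw [hg]; rfl, pow_orderOf_eq_one, pow_zero]
    · rfl
  rw [hconj, Equiv.Perm.sign_permCongr, sign_finRotate]
  decide

variable [IsSimpleGroup G]

/-- No involution centralises a Sylow `3`-subgroup. -/
theorem not_nine_dvd (hN : Nat.card G = 2520) {i : G} (hi : orderOf i = 2) :
    ¬ 9 ∣ Nat.card ↥(centralizer ({i} : Set G)) := by
  have : Fact (Nat.Prime 3) := ⟨Nat.prime_three⟩
  intro h9
  obtain ⟨H, hH⟩ := Sylow.exists_subgroup_card_pow_prime (G := ↥(centralizer ({i} : Set G))) 3 (n := 2)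
    (by simpa using h9)
  obtain ⟨R, hR⟩ := ((IsPGroup.of_card hH).map (centralizer ({i} : Set G)).subtype).exists_le_sylow
  have he : H.map (centralizer ({i} : Set G)).subtype = (R : Subgroup G) := eq_of_le_of_card_ge hR (by
    rw [card_map_of_injective (centralizer ({i} : Set G)).subtype_injective, hH, sylowThree_card hN R]
    norm_num)
  have hiR : i ∈ centralizer ((R : Subgroup G) : Set G) := mem_centralizer_iff.2 fun r hr => by
    have hr' : r ∈ H.map (centralizer ({i} : Set G)).subtype := he.ge hr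
    exact mem_centralizer_singleton_iff.1 (map_subtype_le _ hr')
  rw [centralizer_sylowThree hN R] at hiR
  have := orderOf_dvd_natCard _ hiR
  rw [hi, sylowThree_card hN R] at this
  omega

/-- the centraliser of an involution has order `8` or `24` -/
theorem involution_centralizer' (hN : Nat.card G = 2520) {i : G} (hi : orderOf i = 2) :
    Nat.card ↥(centralizer ({i} : Set G)) = 8 ∨ Nat.card ↥(centralizer ({i} : Set G)) = 24 := by
  have := not_nine_dvd hN hi
  rcases involution_centralizer hN hi with h | h | h <;> omega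

/-- An element of the normaliser which fixes an element of `T` fixes exactly a subgroup of order three. -/
theorem fixed_line (hN : Nat.card G = 2520) (T : Sylow 3 G) {r a : G}
    (hr : r ∉ (T : Subgroup G)) (ha : a ∈ (T : Subgroup G)) (ha1 : a ≠ 1) (hra : Commute r a) :
    orderOf a = 3 ∧ ∀ t ∈ (T : Subgroup G), Commute r t → t ∈ zpowers a := by
  have hT := sylowThree_card hN T
  have hno : ¬ (T : Subgroup G) ≤ centralizer ({r} : Set G) := fun h => hr (by
    have : r ∈ centralizer ((T : Subgroup G) : Set G) :=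
      mem_centralizer_iff.2 fun t ht => mem_centralizer_singleton_iff.1 (h ht)
    rwa [centralizer_sylowThree hN T] at this)
  have hle : zpowers a ≤ centralizer ({r} : Set G) :=
    zpowers_le.2 (mem_centralizer_singleton_iff.2 hra.eq.symm)
  have hao : orderOf a = 3 := by
    have h9 := orderOf_dvd_natCard (T : Subgroup G) ha
    rw [hT] at h9
    obtain ⟨k, hk, hk'⟩ := (Nat.dvd_prime_pow Nat.prime_three).1 (show orderOf a ∣ 3 ^ 2 from h9)
    interval_cases k
    · exact absurd (orderOf_eq_one_iff.1 hk') ha1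
    · exact hk'
    · exfalso
      apply hno
      rwa [← eq_of_le_of_card_ge (zpowers_le.2 ha) (by rw [Nat.card_zpowers, hk', hT]; norm_num)]
  refine ⟨hao, fun t ht hrt => ?_⟩
  set K := (T : Subgroup G) ⊓ centralizer ({r} : Set G) with hK
  have hKd : Nat.card K ∣ 3 ^ 2 := by
    have := card_dvd_of_le (inf_le_left : K ≤ (T : Subgroup G))
    rwa [hT] at this
  obtain ⟨k, hk, hk'⟩ := (Nat.dvd_prime_pow Nat.prime_three).1 hKd
  have h3 : 3 ≤ Nat.card K := by
    have := card_le_of_le (show zpowers a ≤ K from le_inf (zpowers_le.2 ha) hle)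
    rwa [Nat.card_zpowers, hao] at this
  have hKT : Nat.card K ≠ 9 := fun h => hno ((eq_of_le_of_card_ge inf_le_left (by rw [h, hT])).ge.trans inf_le_right)
  have hKz : zpowers a = K := eq_of_le_of_card_ge (le_inf (zpowers_le.2 ha) hle) (by
    rw [Nat.card_zpowers, hao]
    interval_cases k <;> omega)
  rw [hKz]
  exact ⟨ht, mem_centralizer_singleton_iff.2 hrt.eq.symm⟩

/-- An element of order four normalising `T` whose square inverts `T`. -/
theorem exists_q (hN : Nat.card G = 2520) (T : Sylow 3 G) :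
    ∃ q : G, q ∈ normalizer ((T : Subgroup G) : Set G) ∧ orderOf q = 4 ∧
      ∀ t ∈ (T : Subgroup G), q ^ 2 * t * (q ^ 2)⁻¹ = t⁻¹ := by
  classical
  have : Fact (Nat.Prime 2) := ⟨Nat.prime_two⟩
  have : Fact (Nat.Prime 3) := ⟨Nat.prime_three⟩
  have hT := sylowThree_card hN T
  set N := normalizer ((T : Subgroup G) : Set G) with hNdef
  have hNc : Nat.card N = 36 := (sylowThree_number hN T).2
  have hnotT : ∀ r : G, orderOf r ∣ 4 → r ≠ 1 → r ∉ (T : Subgroup G) := fun r h h1 hr => by
    have h9 := orderOf_dvd_natCard (T : Subgroup G) hr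
    rw [hT] at h9
    exact h1 (orderOf_eq_one_iff.1 (Nat.eq_one_of_dvd_coprimes (by norm_num : Nat.Coprime 4 9) h h9))
  have hconjT : ∀ s ∈ N, ∀ t ∈ (T : Subgroup G), s * t * s⁻¹ ∈ (T : Subgroup G) :=
    fun s hs t ht => (mem_normalizer_iff.1 hs t).1 ht
  by_cases hex : ∃ q ∈ N, orderOf q = 4
  · obtain ⟨q, hq, hqo⟩ := hex
    have hq4 : q ^ 4 = 1 := hqo ▸ pow_orderOf_eq_one q
    have hr1 : q ^ 2 ≠ 1 := pow_ne_one_of_lt_orderOf two_ne_zero (by rw [hqo]; norm_num)
    have hr2 : q ^ 2 * q ^ 2 = 1 := by rw [← pow_add]; exact hq4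
    have hrT : q ^ 2 ∉ (T : Subgroup G) :=
      hnotT _ (orderOf_dvd_of_pow_eq_one (by rw [← pow_mul, show 2 * 4 = 4 * 2 from rfl, pow_mul, hq4, one_pow])) hr1
    refine ⟨q, hq, hqo, CfsgLib.DihedralEight.invert_of_fpf _ _ hr2 (hconjT _ (pow_mem hq 2)) ?_⟩
    intro a ha hfa
    by_contra ha1
    have hra : Commute (q ^ 2) a := mul_inv_eq_iff_eq_mul.1 hfa
    obtain ⟨hao, hline⟩ := fixed_line hN T hrT ha ha1 hra
    have hqA : ∀ t ∈ zpowers a, q * t * q⁻¹ ∈ zpowers a := by
      intro t ht
      obtain ⟨n, rfl⟩ := mem_zpowers_iff.1 ht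
      refine hline _ (hconjT q hq _ (zpow_mem ha n)) ?_
      exact ((show Commute (q ^ 2) q from (Commute.refl q).pow_left 2).mul_right (hra.zpow_right n)).mul_right
        ((show Commute (q ^ 2) q from (Commute.refl q).pow_left 2).inv_right)
    -- an element outside the fixed subgroup
    obtain ⟨c, hc, hca⟩ : ∃ c ∈ (T : Subgroup G), c ∉ zpowers a := by
      by_contra h
      push Not at h
      have := card_le_of_le (show (T : Subgroup G) ≤ zpowers a from h)
      rw [Nat.card_zpowers, hao, hT] at this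
      omega
    have hrc : q ^ 2 * c * (q ^ 2)⁻¹ ≠ c := fun h => hca (hline c hc (mul_inv_eq_iff_eq_mul.1 h))
    have hcomm : Commute a c := sylowThree_comm hN T ha hc
    have hco : c ^ 3 ∈ zpowers a := by
      by_contra h3
      have h1 : orderOf c ∣ 9 := hT ▸ orderOf_dvd_natCard (T : Subgroup G) hc
      have h2 : orderOf c = 9 := by
        obtain ⟨k, hk, hk'⟩ := (Nat.dvd_prime_pow Nat.prime_three).1 (show orderOf c ∣ 3 ^ 2 from h1)
        interval_cases k
        · exact absurd (by rw [orderOf_eq_one_iff.1 hk']; simp) h3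
        · exact absurd (by rw [show (3 : ℕ) = orderOf c from hk'.symm, pow_orderOf_eq_one]; exact one_mem _) h3
        · exact hk'
      have hTc : zpowers c = (T : Subgroup G) :=
        eq_of_le_of_card_ge (zpowers_le.2 hc) (by rw [Nat.card_zpowers, h2, hT])
      obtain ⟨n, hn⟩ := mem_powers_iff_mem_zpowers.2 (hTc ▸ ha : a ∈ zpowers c)
      change c ^ n = a at hn
      have h3n : 3 ∣ n := by
        have : c ^ (n * 3) = 1 := by rw [pow_mul, hn, ← hao, pow_orderOf_eq_one]
        have := orderOf_dvd_of_pow_eq_one this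
        rw [h2] at this
        omega
      obtain ⟨m, rfl⟩ := h3n
      apply h3
      have hm : ¬ 3 ∣ m := by
        rintro ⟨l, rfl⟩
        apply ha1
        rw [← hn, show 3 * (3 * l) = orderOf c * l by rw [h2]; ring, pow_mul, pow_orderOf_eq_one, one_pow]
      have : c ^ 3 = a ^ m := by
        rw [← hn, ← pow_mul]
        refine pow_eq_pow_iff_modEq.2 ?_
        rw [h2, Nat.ModEq]
        have h13 : m * m % 3 = 1 := by
          rw [Nat.mul_mod]
          have h12 : m % 3 = 1 ∨ m % 3 = 2 := by omega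
          rcases h12 with e | e <;> rw [e]
        rw [mul_assoc]
        generalize m * m = z at h13 ⊢
        omega
      rw [this]
      exact pow_mem (mem_zpowers a) m
    have hdec : ∀ t ∈ (T : Subgroup G), ∃ b ∈ zpowers a, ∃ j, j < 3 ∧ t = b * c ^ j := by
      intro t ht
      let F : zpowers a × Fin 3 → ↥(T : Subgroup G) :=
        fun z => ⟨z.1.1 * c ^ (z.2 : ℕ), mul_mem (zpowers_le.2 ha z.1.2) (pow_mem hc _)⟩
      have key : ∀ (b b' : zpowers a) (i j : Fin 3), i.1 ≤ j.1 → (b : G) * c ^ i.1 = b' * c ^ j.1 →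
          (b, i) = (b', j) := by
        intro b b' i j hij h
        have hd : c ^ (j.1 - i.1) ∈ zpowers a := by
          have he : c ^ (j.1 - i.1) = (b' : G)⁻¹ * b := by
            rw [eq_inv_mul_iff_mul_eq]
            refine mul_right_cancel (b := c ^ i.1) ?_
            rw [mul_assoc, ← pow_add, Nat.sub_add_cancel hij, h]
          rw [he]
          exact mul_mem (inv_mem b'.2) b.2
        have hji : i = j := by
          by_contra hne
          have hne' : i.1 ≠ j.1 := fun e => hne (Fin.ext e)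
          have hlt : j.1 - i.1 = 1 ∨ j.1 - i.1 = 2 := by omega
          rcases hlt with e | e <;> rw [e] at hd
          · exact hca (by simpa using hd)
          · refine hca ?_
            have h5 := mul_mem hco (inv_mem hd)
            rwa [show (3 : ℕ) = 1 + 2 from rfl, pow_add, mul_inv_cancel_right, pow_one] at h5
        subst hji
        exact Prod.ext (Subtype.ext (mul_right_cancel h)) rfl
      have hF : Function.Bijective F := by
        refine (Nat.bijective_iff_injective_and_card F).2 ⟨?_, ?_⟩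
        · rintro ⟨b, i⟩ ⟨b', j⟩ h
          have h' : (b : G) * c ^ i.1 = b' * c ^ j.1 := congrArg Subtype.val h
          rcases le_total i.1 j.1 with hij | hij
          · exact key b b' i j hij h'
          · exact (key b' b j i hij h'.symm).symm
        · rw [Nat.card_prod, Nat.card_zpowers, hao, Nat.card_fin, hT]
      obtain ⟨⟨b, j⟩, hb⟩ := hF.2 ⟨t, ht⟩
      exact ⟨b, b.2, j, j.2, (congrArg Subtype.val hb).symm⟩
    obtain ⟨b, hb, j, hj, hqc⟩ := hdec _ (hconjT q hq c hc)
    have hcpow : ∃ b' ∈ zpowers a, q ^ 2 * c * (q ^ 2)⁻¹ = b' * c ^ (j * j) := by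
      refine ⟨q * b * q⁻¹ * b ^ j, mul_mem (hqA b hb) (pow_mem hb j), ?_⟩
      have hbc : Commute b c := by
        obtain ⟨n, rfl⟩ := mem_zpowers_iff.1 hb
        exact hcomm.zpow_left n
      calc q ^ 2 * c * (q ^ 2)⁻¹ = q * (q * c * q⁻¹) * q⁻¹ := by rw [pow_two]; group
        _ = q * b * q⁻¹ * (q * c ^ j * q⁻¹) := by rw [hqc]; group
        _ = q * b * q⁻¹ * (b * c ^ j) ^ j := by rw [← conj_pow, hqc]
        _ = q * b * q⁻¹ * b ^ j * c ^ (j * j) := by
          rw [(hbc.pow_right j).mul_pow, ← pow_mul]; simp only [mul_assoc]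
    obtain ⟨b', hb', hb'c⟩ := hcpow
    have hb'' : ∃ b'' ∈ zpowers a, q ^ 2 * c * (q ^ 2)⁻¹ = b'' * c := by
      interval_cases j
      · exfalso
        apply hca
        have h0 : q ^ 2 * c * (q ^ 2)⁻¹ ∈ zpowers a := by
          rw [hb'c, pow_zero, mul_one]; exact hb'
        have h1 := hqA _ (hqA _ h0)
        have hcc : q * (q * (q ^ 2 * c * (q ^ 2)⁻¹) * q⁻¹) * q⁻¹ = c := by
          calc q * (q * (q ^ 2 * c * (q ^ 2)⁻¹) * q⁻¹) * q⁻¹ = q ^ 4 * c * (q ^ 4)⁻¹ := by group
            _ = c := by rw [hq4]; group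
        rwa [hcc] at h1
      · exact ⟨b', hb', by rw [hb'c, mul_one, pow_one]⟩
      · refine ⟨b' * c ^ 3, mul_mem hb' hco, ?_⟩
        rw [hb'c, mul_assoc, ← pow_succ]
    obtain ⟨b'', hb'', hb''c⟩ := hb''
    have hsq : b'' ^ 2 = 1 := by
      have hfix : q ^ 2 * b'' * (q ^ 2)⁻¹ = b'' := by
        obtain ⟨n, rfl⟩ := mem_zpowers_iff.1 hb''
        exact mul_inv_eq_iff_eq_mul.2 (hra.zpow_right n)
      have h2 : q ^ 2 * (q ^ 2 * c * (q ^ 2)⁻¹) * (q ^ 2)⁻¹ = c := by
        calc q ^ 2 * (q ^ 2 * c * (q ^ 2)⁻¹) * (q ^ 2)⁻¹ = (q ^ 2 * q ^ 2) * c * (q ^ 2 * q ^ 2)⁻¹ := by group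
          _ = c := by rw [hr2]; group
      rw [hb''c, show q ^ 2 * (b'' * c) * (q ^ 2)⁻¹ = (q ^ 2 * b'' * (q ^ 2)⁻¹) * (q ^ 2 * c * (q ^ 2)⁻¹) by group,
        hfix, hb''c, ← mul_assoc, ← pow_two] at h2
      exact mul_eq_right.1 h2
    have h3 : b'' ^ 3 = 1 := by
      obtain ⟨n, rfl⟩ := mem_zpowers_iff.1 hb''
      rw [← zpow_natCast, ← zpow_mul, mul_comm, zpow_mul, zpow_natCast, ← hao, pow_orderOf_eq_one, one_zpow]
    rw [pow_succ, hsq, one_mul] at h3
    rw [h3, one_mul] at hb''c
    exact hrc hb''c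
  · exfalso
    push Not at hex
    obtain ⟨Q⟩ := (inferInstance : Nonempty (Sylow 2 N))
    have hQc : Nat.card ↥(Q : Subgroup N) = 4 := by
      simpa using card_sylow_eq (e := 2) (m := 9) (by rw [hNc]; norm_num) (by norm_num) Q
    set Qg := (Q : Subgroup N).map N.subtype with hQg
    have hQgc : Nat.card Qg = 4 := by rw [hQg, card_map_of_injective N.subtype_injective, hQc]
    have hQgN : Qg ≤ N := map_subtype_le _
    have hsq : ∀ r ∈ Qg, r * r = 1 := by
      intro r hr
      obtain ⟨k, hk, hk'⟩ := (Nat.dvd_prime_pow Nat.prime_two).1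
        (show orderOf r ∣ 2 ^ 2 from (orderOf_dvd_natCard Qg hr).trans hQgc.dvd)
      interval_cases k
      · rw [orderOf_eq_one_iff.1 hk', one_mul]
      · rw [← pow_two, ← show orderOf r = 2 from hk', pow_orderOf_eq_one]
      · exact absurd hk' (hex r (hQgN hr))
    have hQcomm : ∀ r ∈ Qg, ∀ s ∈ Qg, Commute r s := by
      intro r hr s hs
      have h := hsq _ (mul_mem hr hs)
      have h1 : r⁻¹ = r := inv_eq_of_mul_eq_one_right (hsq r hr)
      have h2 : s⁻¹ = s := inv_eq_of_mul_eq_one_right (hsq s hs)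
      calc r * s = (r * s)⁻¹ := (inv_eq_of_mul_eq_one_right h).symm
        _ = s * r := by rw [mul_inv_rev, h1, h2]
    obtain ⟨r₁, hr₁, hr₁1⟩ : ∃ r ∈ Qg, r ≠ 1 := by
      obtain ⟨⟨r, hr⟩, hr'⟩ := (Subgroup.ne_bot_iff_exists_ne_one).1
        (show Qg ≠ ⊥ from fun h => by rw [h, card_bot] at hQgc; omega)
      exact ⟨r, hr, fun h => hr' (Subtype.ext h)⟩
    obtain ⟨r₂, hr₂, hr₂1⟩ : ∃ r ∈ Qg, r ∉ zpowers r₁ := by
      by_contra h
      push Not at h
      have h1 := card_le_of_le (show Qg ≤ zpowers r₁ from h)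
      rw [Nat.card_zpowers, hQgc, orderOf_eq_prime (by rw [pow_two]; exact hsq r₁ hr₁) hr₁1] at h1
      omega
    have hfix : ∃ r ∈ Qg, r ≠ 1 ∧ ∃ a ∈ (T : Subgroup G), a ≠ 1 ∧ Commute r a := by
      by_contra h
      push Not at h
      have hinv : ∀ r ∈ Qg, r ≠ 1 → ∀ t ∈ (T : Subgroup G), r * t * r⁻¹ = t⁻¹ := fun r hr h1 =>
        CfsgLib.DihedralEight.invert_of_fpf _ _ (hsq r hr) (hconjT r (hQgN hr)) fun x hx hfx => by
          by_contra hx1
          exact h r hr h1 x hx hx1 (mul_inv_eq_iff_eq_mul.1 hfx)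
      have h3 : r₁ * r₂ ∈ centralizer ((T : Subgroup G) : Set G) := mem_centralizer_iff.2 fun t ht => by
        have e1 := hinv r₂ hr₂ (fun e => hr₂1 (e ▸ one_mem _)) t ht
        have e2 := hinv r₁ hr₁ hr₁1 t⁻¹ (inv_mem ht)
        rw [inv_inv] at e2
        refine (mul_inv_eq_iff_eq_mul.1 ?_).symm
        calc r₁ * r₂ * t * (r₁ * r₂)⁻¹ = r₁ * (r₂ * t * r₂⁻¹) * r₁⁻¹ := by group
          _ = t := by rw [e1, e2]
      rw [centralizer_sylowThree hN T] at h3
      refine hnotT _ (orderOf_dvd_of_pow_eq_one (n := 4) ?_) ?_ h3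
      · rw [show (4 : ℕ) = 2 * 2 from rfl, pow_mul, pow_two (r₁ * r₂), hsq _ (mul_mem hr₁ hr₂), one_pow]
      · intro e
        exact hr₂1 ((eq_inv_of_mul_eq_one_right e) ▸ inv_mem (mem_zpowers r₁))
    obtain ⟨r, hr, hr1, a, ha, ha1, hra⟩ := hfix
    have hro : orderOf r = 2 := orderOf_eq_prime (by rw [pow_two]; exact hsq r hr) hr1
    obtain ⟨hao, hline⟩ := fixed_line hN T (hnotT r (by rw [hro]; norm_num) hr1) ha ha1 hra
    set A := zpowers a with hA
    have hQA : Qg ≤ normalizer (A : Set G) := by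
      have hmem : ∀ s ∈ Qg, ∀ w ∈ A, s * w * s⁻¹ ∈ A := by
        intro s hs w hw
        obtain ⟨n, rfl⟩ := mem_zpowers_iff.1 hw
        refine hline _ (hconjT s (hQgN hs) _ (zpow_mem ha n)) ?_
        exact ((hQcomm r hr s hs).mul_right (hra.zpow_right n)).mul_right (hQcomm r hr s hs).inv_right
      intro s hs
      refine mem_normalizer_iff.2 fun w => ⟨hmem s hs w, fun h => ?_⟩
      have := hmem s⁻¹ (inv_mem hs) _ h
      rwa [show s⁻¹ * (s * w * s⁻¹) * s⁻¹⁻¹ = w by group] at this
    set C := centralizer ({r} : Set G) with hC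
    have hAC : A ≤ C := zpowers_le.2 (mem_centralizer_singleton_iff.2 hra.eq.symm)
    have hQC : Qg ≤ C := fun s hs => mem_centralizer_singleton_iff.2 (hQcomm s hs r hr)
    have hAc : Nat.card A = 3 := by rw [hA, Nat.card_zpowers, hao]
    have hC24 : Nat.card C = 24 := by
      have h3 : 3 ∣ Nat.card C := hAc ▸ card_dvd_of_le hAC
      rcases involution_centralizer' hN hro with h | h
      · exfalso
        have h' : Nat.card C = 8 := h
        rw [h'] at h3
        norm_num at h3
      · exact h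
    obtain ⟨A', hA'⟩ := exists_sylow_eq (G := C) (p := 3) (m := 8) (by rw [hC24]) (by norm_num)
      (show Nat.card (A.subgroupOf C) = 3 by rw [Nat.card_congr (subgroupOfEquivOfLe hAC).toEquiv, hAc])
    have hNA' : (normalizer (A : Set G)).subgroupOf C ≤ normalizer ((A' : Subgroup C) : Set C) := by
      intro s hs
      rw [hA']
      refine mem_normalizer_iff.2 fun w => ?_
      simp only [mem_subgroupOf, Subgroup.coe_mul, InvMemClass.coe_inv]
      exact mem_normalizer_iff.1 (mem_subgroupOf.1 hs) _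
    have h12 : 12 ∣ Nat.card ↥(normalizer ((A' : Subgroup C) : Set C)) := by
      have h1 : A.subgroupOf C ≤ (normalizer (A : Set G)).subgroupOf C := comap_mono le_normalizer
      have h2 : Qg.subgroupOf C ≤ (normalizer (A : Set G)).subgroupOf C := comap_mono hQA
      refine Nat.Coprime.mul_dvd_of_dvd_of_dvd (show Nat.Coprime 3 4 by norm_num) ?_ ?_
      · exact (Nat.card_congr (subgroupOfEquivOfLe hAC).toEquiv ▸ hAc).symm.dvd.trans (card_dvd_of_le (h1.trans hNA'))
      · exact (Nat.card_congr (subgroupOfEquivOfLe hQC).toEquiv ▸ hQgc).symm.dvd.trans (card_dvd_of_le (h2.trans hNA'))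
    have hn1 : Nat.card (Sylow 3 C) = 1 := by
      have hmul := card_normalizer_mul A'
      rw [hC24] at hmul
      have hmod := card_sylow_modEq_one 3 C
      obtain ⟨k, hk⟩ := h12
      rw [hk, mul_assoc] at hmul
      have : Nat.card (Sylow 3 C) ∣ 2 := ⟨k, by rw [mul_comm _ k]; omega⟩
      exact (by decide : ∀ n ∈ Nat.divisors 2, n % 3 = 1 → n = 1) _ (Nat.mem_divisors.2 ⟨this, by norm_num⟩) hmod
    have hCN : C ≤ normalizer (A : Set G) := by
      have htop : normalizer ((A' : Subgroup C) : Set C) = ⊤ :=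
        index_eq_one.1 (A'.card_eq_index_normalizer.symm.trans hn1)
      have h := le_normalizer_map (H := (A' : Subgroup C)) C.subtype
      rw [htop, ← MonoidHom.range_eq_map, C.range_subtype, hA', map_subgroupOf_eq_of_le hAC] at h
      exact h
    have hTN : (T : Subgroup G) ≤ normalizer (A : Set G) := fun t ht =>
      centralizer_le_normalizer _ (mem_centralizer_zpowers (sylowThree_comm hN T ht ha))
    set M := normalizer (A : Set G) with hM
    have h72 : 72 ∣ Nat.card M := Nat.Coprime.mul_dvd_of_dvd_of_dvd (show Nat.Coprime 9 8 by norm_num)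
      (hT ▸ card_dvd_of_le hTN) ((dvd_trans (by norm_num) hC24.symm.dvd).trans (card_dvd_of_le hCN))
    have hM57 : ∀ p, p = 5 ∨ p = 7 → ¬ p ∣ Nat.card M := by
      intro p hp57 hdvd
      have hp : p.Prime := by rcases hp57 with rfl | rfl <;> norm_num
      have : Fact p.Prime := ⟨hp⟩
      obtain ⟨⟨y, hy⟩, hyo⟩ := exists_prime_orderOf_dvd_card' (G := M) p hdvd
      rw [orderOf_mk] at hyo
      have hyA : y * a * y⁻¹ ∈ A := (mem_normalizer_iff.1 hy a).1 (mem_zpowers a)
      obtain ⟨n, hn⟩ := mem_powers_iff_mem_zpowers.2 hyA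
      change a ^ n = _ at hn
      rw [← pow_mod_orderOf, hao] at hn
      have hit : ∀ k : ℕ, y ^ k * a * (y ^ k)⁻¹ = a ^ (n % 3) ^ k := by
        intro k
        induction k with
        | zero => simp
        | succ k ih =>
          rw [pow_succ', show y * y ^ k * a * (y * y ^ k)⁻¹ = y * (y ^ k * a * (y ^ k)⁻¹) * y⁻¹ by group, ih,
            ← conj_pow, ← hn, ← pow_mul, pow_succ']
      have hp' := hit p
      rw [← hyo, pow_orderOf_eq_one, one_mul, inv_one, mul_one] at hp'
      conv_lhs at hp' => rw [← pow_one a]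
      rw [pow_eq_pow_iff_modEq, hao, Nat.ModEq, Nat.pow_mod, Nat.mod_mod] at hp'
      have h1 : n % 3 = 1 := by
        have hlt : n % 3 < 3 := Nat.mod_lt _ (by norm_num)
        rw [hyo] at hp'
        generalize n % 3 = j at hp' hlt
        rcases hp57 with rfl | rfl <;> interval_cases j <;> simp_all
      rw [h1, pow_one] at hn
      have hcy : y ∈ centralizer ({a} : Set G) := mem_centralizer_singleton_iff.2 (mul_inv_eq_iff_eq_mul.1 hn.symm)
      obtain ⟨h5, h7⟩ := centralizer_local hN (g := a) ha1 (by rw [hao]; norm_num) (by rw [hao]; norm_num)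
      have hd := orderOf_dvd_natCard _ hcy
      rw [hyo] at hd
      rcases hp57 with rfl | rfl
      · exact h5 hd
      · exact h7 hd
    have hMc : Nat.card M = 72 :=
      (by decide +kernel : ∀ n ∈ Nat.divisors 2520, 72 ∣ n → ¬ 5 ∣ n → ¬ 7 ∣ n → n = 72) _
        (Nat.mem_divisors.2 ⟨hN ▸ card_subgroup_dvd_card M, by norm_num⟩) h72 (hM57 5 (Or.inl rfl))
        (hM57 7 (Or.inr rfl))
    set T' : Sylow 3 M := T.subtype hTN with hT'
    set NM := normalizer ((T' : Subgroup M) : Set M) with hNM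
    have hge : 36 ∣ Nat.card NM := by
      have h1 : (T : Subgroup G).subgroupOf M ≤ NM := le_normalizer
      have h2 : Qg.subgroupOf M ≤ NM := by
        intro s hs
        refine mem_normalizer_iff.2 fun w => ?_
        change w.1 ∈ (T : Subgroup G) ↔ s.1 * w.1 * s.1⁻¹ ∈ (T : Subgroup G)
        exact mem_normalizer_iff.1 (hQgN (mem_subgroupOf.1 hs)) _
      refine Nat.Coprime.mul_dvd_of_dvd_of_dvd (show Nat.Coprime 9 4 by norm_num) ?_ ?_
      · exact (Nat.card_congr (subgroupOfEquivOfLe hTN).toEquiv ▸ hT).symm.dvd.trans (card_dvd_of_le h1)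
      · exact (Nat.card_congr (subgroupOfEquivOfLe hQA).toEquiv ▸ hQgc).symm.dvd.trans (card_dvd_of_le h2)
    have hle36 : Nat.card NM ≤ 36 := by
      have h := le_normalizer_map (H := (T' : Subgroup M)) M.subtype
      rw [show (T' : Subgroup M).map M.subtype = T from map_subgroupOf_eq_of_le hTN] at h
      have := card_le_of_le h
      rwa [card_map_of_injective M.subtype_injective, hNc] at this
    have hmul := card_normalizer_mul T'
    rw [← hNM, hMc, Nat.le_antisymm hle36 (Nat.le_of_dvd Nat.card_pos hge)] at hmul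
    have hmod := card_sylow_modEq_one 3 M
    unfold Nat.ModEq at hmod
    omega

end CfsgLib.SmallOrder.AltSeven
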