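import Cfsg.Agent.Lib.SmallOrder.AltSeven.Sylow
import Mathlib.GroupTheory.Perm.Fin

/-!
Simple groups of order `2520`: the normaliser of a Sylow `3`-subgroup and the centraliser of an involution.
-/

set_option autoImplicit false

namespace CfsgLib.SmallOrder.AltSeven

open Subgroup Pointwise

variable {G : Type*} [Group G] [Finite G] [IsSimpleGroup G]

omit [IsSimpleGroup G] in
/-- Conjugate elements have centralisers of the same order. -/
theorem card_centralizer_of_isConj {s t : G} (h : IsConj s t) :
    Nat.card ↥(centralizer ({s} : Set G)) = Nat.card ↥(centralizer ({t} : Set G)) := by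
  have h1 := Invol.card_isConj_eq_index s
  have h2 := Invol.card_isConj_eq_index t
  have h3 : Nat.card {g : G // IsConj s g} = Nat.card {g : G // IsConj t g} :=
    Nat.card_congr (Equiv.subtypeEquivRight fun g => ⟨h.symm.trans, h.trans⟩)
  rw [h1, h2] at h3
  have hs := (centralizer ({s} : Set G)).card_mul_index
  rw [h3, ← (centralizer ({t} : Set G)).card_mul_index] at hs
  exact Nat.eq_of_mul_eq_mul_right (Nat.pos_of_ne_zero index_ne_zero_of_finite) hs

/-- The possible orders of the centralisers of involutions. -/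
theorem involution_centralizer (hN : Nat.card G = 2520) {i : G} (hi : orderOf i = 2) :
    Nat.card ↥(centralizer ({i} : Set G)) = 8 ∨ Nat.card ↥(centralizer ({i} : Set G)) = 24 ∨
      Nat.card ↥(centralizer ({i} : Set G)) = 72 := by
  have h8 := (involution hN).2 i hi
  have hi1 : i ≠ 1 := fun h => by rw [h, orderOf_one] at hi; omega
  obtain ⟨h5, h7⟩ := centralizer_local hN hi1 (by rw [hi]; norm_num) (by rw [hi]; norm_num)
  have hd : Nat.card ↥(centralizer ({i} : Set G)) ∣ 2520 := hN ▸ card_subgroup_dvd_card _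
  exact (by decide +kernel : ∀ n ∈ Nat.divisors 2520, 8 ∣ n → ¬ 5 ∣ n → ¬ 7 ∣ n → n = 8 ∨ n = 24 ∨ n = 72)
    _ (Nat.mem_divisors.2 ⟨hd, by norm_num⟩) h8 h5 h7

omit [IsSimpleGroup G] in
theorem sylowThree_card (hN : Nat.card G = 2520) (T : Sylow 3 G) : Nat.card ↥(T : Subgroup G) = 9 := by
  have : Fact (Nat.Prime 3) := ⟨Nat.prime_three⟩
  simpa using card_sylow_eq (e := 2) (m := 280) (by rw [hN]; norm_num) (by norm_num) T

theorem sylowThree_comm (hN : Nat.card G = 2520) (T : Sylow 3 G) {a b : G}
    (ha : a ∈ (T : Subgroup G)) (hb : b ∈ (T : Subgroup G)) : a * b = b * a := by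
  have : Fact (Nat.Prime 3) := ⟨Nat.prime_three⟩
  exact congrArg Subtype.val
    ((isMulCommutative_of_card_eq_prime_or_sq T (Or.inr (sylowThree_card hN T))).is_comm.comm ⟨a, ha⟩ ⟨b, hb⟩)

theorem le_centralizer_self (hN : Nat.card G = 2520) (T : Sylow 3 G) :
    (T : Subgroup G) ≤ centralizer ((T : Subgroup G) : Set G) :=
  fun _ hx => mem_centralizer_iff.2 fun _ hy => sylowThree_comm hN T hy hx

theorem sylowThree_number (hN : Nat.card G = 2520) (T : Sylow 3 G) :
    Nat.card (Sylow 3 G) = 70 ∧ Nat.card ↥(normalizer ((T : Subgroup G) : Set G)) = 36 := by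
  have : Fact (Nat.Prime 3) := ⟨Nat.prime_three⟩
  have hT := sylowThree_card hN T
  have hmul := card_normalizer_mul T
  rw [hN] at hmul
  set N := normalizer ((T : Subgroup G) : Set G) with hNdef
  have hNC : ∀ p, p = 5 ∨ p = 7 → ¬ p ∣ Nat.card N := by
    intro p hp57 hdvd
    have hp : p.Prime := by rcases hp57 with rfl | rfl <;> norm_num
    have : Fact p.Prime := ⟨hp⟩
    obtain ⟨y, hyo⟩ := exists_prime_orderOf_dvd_card' (G := N) p hdvd
    have h1 : orderOf (normalizerMonoidHom (T : Subgroup G) y) = 1 := by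
      rcases (Nat.dvd_prime hp).1 ((orderOf_map_dvd (normalizerMonoidHom (T : Subgroup G)) y).trans hyo.dvd) with h | h
      · exact h
      · exfalso
        have hd := _root_.orderOf_dvd_natCard (normalizerMonoidHom (T : Subgroup G) y)
        rw [h] at hd
        have := prime_dvd_card_mulAut Nat.prime_three hp (A := ↥(T : Subgroup G)) (by rw [hT]; norm_num) hd
        rcases hp57 with rfl | rfl <;> norm_num at this
    rw [orderOf_eq_one_iff, ← MonoidHom.mem_ker, normalizerMonoidHom_ker] at h1
    have hy : (y : G) ∈ centralizer ((T : Subgroup G) : Set G) := h1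
    obtain ⟨⟨a, ha⟩, hao⟩ := exists_prime_orderOf_dvd_card' (G := ↥(T : Subgroup G)) 3 (by rw [hT]; norm_num)
    rw [orderOf_mk] at hao
    have hd := orderOf_dvd_natCard (centralizer ({a} : Set G))
      (mem_centralizer_singleton_iff.2 ((mem_centralizer_iff.1 hy a ha).symm :))
    rw [orderOf_coe, hyo] at hd
    obtain ⟨h5, h7⟩ := centralizer_local hN (g := a) (fun h => by rw [h, orderOf_one] at hao; omega)
      (by rw [hao]; norm_num) (by rw [hao]; norm_num)
    rcases hp57 with rfl | rfl
    · exact h5 hd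
    · exact h7 hd
  have h := card_sylow_mem_sylowCands (p := 3) (e := 2) (m := 280) hN (by norm_num) (by norm_num)
    two_pos (by norm_num)
  rw [show sylowCands 2520 3 280 = [7, 10, 28, 40, 70, 280] by decide +kernel] at h
  simp only [List.mem_cons, List.not_mem_nil, or_false] at h
  rcases h with h | h | h | h | h | h <;> rw [h] at hmul
  · exact absurd (show 5 ∣ Nat.card N by omega) (hNC 5 (Or.inl rfl))
  · exact absurd (show 7 ∣ Nat.card N by omega) (hNC 7 (Or.inr rfl))
  · exact absurd (show 5 ∣ Nat.card N by omega) (hNC 5 (Or.inl rfl))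
  · exact absurd (show 7 ∣ Nat.card N by omega) (hNC 7 (Or.inr rfl))
  · exact ⟨h, by omega⟩
  · exfalso
    refine not_normalizer_le_centralizer (hN ▸ by norm_num : 3 ∣ Nat.card G) T (fun ht => ?_) ?_
    · rw [ht, card_top, hN] at hT
      omega
    · have heq : (T : Subgroup G) = N := eq_of_le_of_card_ge le_normalizer (by rw [hT]; omega)
      rw [← hNdef, ← heq]
      exact le_centralizer_self hN T

/-- A Sylow `3`-subgroup is its own centraliser. -/
theorem centralizer_sylowThree (hN : Nat.card G = 2520) (T : Sylow 3 G) :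
    centralizer ((T : Subgroup G) : Set G) = (T : Subgroup G) := by
  classical
  have : Fact (Nat.Prime 3) := ⟨Nat.prime_three⟩
  have : Fact (Nat.Prime 2) := ⟨Nat.prime_two⟩
  have hcases : ∀ R : Sylow 3 G, Nat.card ↥(centralizer ((R : Subgroup G) : Set G)) = 9 ∨
      Nat.card ↥(centralizer ((R : Subgroup G) : Set G)) = 18 := by
    intro R
    obtain ⟨-, hNR⟩ := sylowThree_number hN R
    have h9 := card_dvd_of_le (le_centralizer_self hN R)
    rw [sylowThree_card hN R] at h9
    have h36 := card_dvd_of_le (centralizer_le_normalizer ((R : Subgroup G) : Set G))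
    rw [hNR] at h36
    have hne : Nat.card ↥(centralizer ((R : Subgroup G) : Set G)) ≠ 36 := by
      intro h
      have heq : centralizer ((R : Subgroup G) : Set G) = normalizer ((R : Subgroup G) : Set G) :=
        eq_of_le_of_card_ge (centralizer_le_normalizer _) (by rw [h, hNR])
      refine not_normalizer_le_centralizer (hN ▸ by norm_num : 3 ∣ Nat.card G) R (fun ht => ?_) heq.ge
      have := sylowThree_card hN R
      rw [ht, card_top, hN] at this
      omega
    exact (by decide : ∀ n ∈ Nat.divisors 36, 9 ∣ n → n ≠ 36 → n = 9 ∨ n = 18) _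
      (Nat.mem_divisors.2 ⟨h36, by norm_num⟩) h9 hne
  by_contra hne
  have h18 : ∀ R : Sylow 3 G, Nat.card ↥(centralizer ((R : Subgroup G) : Set G)) = 18 := by
    intro R
    rcases hcases T with h | h
    · exact absurd (eq_of_le_of_card_ge (le_centralizer_self hN T) (by rw [h, sylowThree_card hN T])).symm hne
    · obtain ⟨g, rfl⟩ := MulAction.exists_smul_eq G T R
      rw [← h]
      refine (Nat.card_congr ((MulAut.conj g).toEquiv.subtypeEquiv fun w => ?_)).symm
      simp only [MulEquiv.toEquiv_eq_coe, EquivLike.coe_coe, MulAut.conj_apply]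
      constructor
      · intro hw
        refine mem_centralizer_iff.2 fun y hy => ?_
        obtain ⟨z, hz, rfl⟩ := (mem_smul_pointwise_iff_exists _ _ _).1
          (show y ∈ MulAut.conj g • (T : Subgroup G) from hy)
        change g * z * g⁻¹ * (g * w * g⁻¹) = g * w * g⁻¹ * (g * z * g⁻¹)
        have := mem_centralizer_iff.1 hw z hz
        calc g * z * g⁻¹ * (g * w * g⁻¹) = g * (z * w) * g⁻¹ := by group
          _ = g * (w * z) * g⁻¹ := by rw [this]
          _ = g * w * g⁻¹ * (g * z * g⁻¹) := by group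
      · intro hw
        refine mem_centralizer_iff.2 fun z hz => ?_
        have hy : g * z * g⁻¹ ∈ MulAut.conj g • (T : Subgroup G) :=
          smul_mem_pointwise_smul z (MulAut.conj g) _ hz
        have := mem_centralizer_iff.1 hw _ hy
        have h2 : g * (z * w) * g⁻¹ = g * (w * z) * g⁻¹ := by
          calc g * (z * w) * g⁻¹ = g * z * g⁻¹ * (g * w * g⁻¹) := by group
            _ = g * w * g⁻¹ * (g * z * g⁻¹) := this
            _ = _ := by group
        exact mul_left_cancel (mul_right_cancel h2)
  -- the involution centralising a Sylow subgroup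
  have hinv : ∀ R : Sylow 3 G, ∃ j : {j : G // orderOf j = 2},
      (R : Subgroup G) ≤ centralizer ({j.1} : Set G) ∧
      ∀ j' : {j : G // orderOf j = 2}, (R : Subgroup G) ≤ centralizer ({j'.1} : Set G) → j' = j := by
    intro R
    obtain ⟨⟨i, hi⟩, hio⟩ := exists_prime_orderOf_dvd_card'
      (G := ↥(centralizer ((R : Subgroup G) : Set G))) 2 (by rw [h18]; norm_num)
    rw [orderOf_mk] at hio
    refine ⟨⟨i, hio⟩, fun r hr => mem_centralizer_singleton_iff.2 (mem_centralizer_iff.1 hi r hr), ?_⟩
    rintro ⟨j, hjo⟩ hj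
    have hjC : j ∈ centralizer ((R : Subgroup G) : Set G) :=
      mem_centralizer_iff.2 fun r hr => mem_centralizer_singleton_iff.1 (hj hr)
    have hidx : ((R : Subgroup G).subgroupOf (centralizer ((R : Subgroup G) : Set G))).index = 2 := by
      have h := ((R : Subgroup G).subgroupOf (centralizer ((R : Subgroup G) : Set G))).card_mul_index
      rw [Nat.card_congr (subgroupOfEquivOfLe (le_centralizer_self hN R)).toEquiv, h18,
        sylowThree_card hN R] at h
      omega
    have hnot : ∀ w : G, orderOf w = 2 → w ∉ (R : Subgroup G) := fun w hw h => by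
      have := orderOf_dvd_natCard (R : Subgroup G) h
      rw [sylowThree_card hN R, hw] at this
      omega
    have hmem : i * j ∈ (R : Subgroup G) := by
      have h := (Subgroup.mul_mem_iff_of_index_two hidx (a := (⟨i, hi⟩ : centralizer ((R : Subgroup G) : Set G)))
        (b := ⟨j, hjC⟩)).2 (iff_of_false (hnot i hio) (hnot j hjo))
      exact h
    have hcom := mem_centralizer_iff.1 hi _ hmem
    have hii : i * i = 1 := by rw [← pow_two, ← hio, pow_orderOf_eq_one]
    have hjj : j * j = 1 := by rw [← pow_two, ← hjo, pow_orderOf_eq_one]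
    have hij : j * i = i * j := by
      have := hcom
      rw [mul_assoc] at this
      exact mul_left_cancel (this.trans (by group))
    have h2 : (i * j) ^ 2 = 1 := by
      rw [pow_two, show i * j * (i * j) = i * (j * i) * j by group, hij,
        show i * (i * j) * j = (i * i) * (j * j) by group, hii, hjj, one_mul]
    have h9 : (i * j) ^ 9 = 1 :=
      orderOf_dvd_iff_pow_eq_one.1 ((orderOf_dvd_natCard _ hmem).trans (sylowThree_card hN R).dvd)
    rw [show (9 : ℕ) = 2 * 4 + 1 from rfl, pow_succ, pow_mul, h2, one_pow, one_mul] at h9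
    exact Subtype.ext ((eq_inv_of_mul_eq_one_right h9).trans (inv_eq_of_mul_eq_one_right hii))
  choose Φ hΦ1 hΦ2 using hinv
  have hfib : ∀ j : {j : G // orderOf j = 2}, Nat.card {R : Sylow 3 G // Φ R = j} =
      Nat.card (Sylow 3 ↥(centralizer ({j.1} : Set G))) := by
    intro j
    have hle : ∀ R, Φ R = j → (R : Subgroup G) ≤ centralizer ({j.1} : Set G) := fun R h => by
      rw [← h]; exact hΦ1 R
    let F : {R : Sylow 3 G // Φ R = j} → Sylow 3 ↥(centralizer ({j.1} : Set G)) :=
      fun R => R.1.subtype (hle R.1 R.2)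
    refine Nat.card_eq_of_bijective F ⟨?_, fun Q => ?_⟩
    · rintro ⟨R, hR⟩ ⟨R', hR'⟩ h
      apply Subtype.ext
      apply Sylow.ext
      have h' : (R : Subgroup G).subgroupOf (centralizer ({j.1} : Set G)) =
          (R' : Subgroup G).subgroupOf (centralizer ({j.1} : Set G)) := congrArg Sylow.toSubgroup h
      rw [← map_subgroupOf_eq_of_le (hle R hR), h', map_subgroupOf_eq_of_le (hle R' hR')]
    · -- the centraliser contains a Sylow subgroup of `G`
      obtain ⟨i, hi1, -⟩ : ∃ i : {j : G // orderOf j = 2},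
          (T : Subgroup G) ≤ centralizer ({i.1} : Set G) ∧ True := ⟨Φ T, hΦ1 T, trivial⟩
      have hc : 9 ∣ Nat.card ↥(centralizer ({j.1} : Set G)) := by
        rw [card_centralizer_of_isConj ((involution hN).1 j.1 i.1 j.2 i.2)]
        exact sylowThree_card hN T ▸ card_dvd_of_le hi1
      obtain ⟨H, hH⟩ := Sylow.exists_subgroup_card_pow_prime (G := ↥(centralizer ({j.1} : Set G))) 3
        (n := 2) (by simpa using hc)
      obtain ⟨Q', hQ'⟩ := (IsPGroup.of_card hH).exists_le_sylow
      have hQc : Nat.card ↥(Q : Subgroup ↥(centralizer ({j.1} : Set G))) = 9 := by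
        have h1 : Nat.card ↥(Q' : Subgroup ↥(centralizer ({j.1} : Set G))) = Nat.card ↥(Q : Subgroup ↥(centralizer ({j.1} : Set G))) := by
          rw [Q'.card_eq_multiplicity, Q.card_eq_multiplicity]
        have h2 := card_le_of_le hQ'
        rw [hH, h1] at h2
        obtain ⟨R, hR⟩ := (Q.2.map (centralizer ({j.1} : Set G)).subtype).exists_le_sylow
        have h3 := card_le_of_le hR
        rw [card_map_of_injective (centralizer ({j.1} : Set G)).subtype_injective, sylowThree_card hN R] at h3
        omega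
      obtain ⟨R, hR⟩ := (Q.2.map (centralizer ({j.1} : Set G)).subtype).exists_le_sylow
      have hRe : (Q : Subgroup ↥(centralizer ({j.1} : Set G))).map (centralizer ({j.1} : Set G)).subtype = (R : Subgroup G) :=
        eq_of_le_of_card_ge hR (by
          rw [card_map_of_injective (centralizer ({j.1} : Set G)).subtype_injective, hQc, sylowThree_card hN R])
      have hRle : (R : Subgroup G) ≤ centralizer ({j.1} : Set G) := hRe ▸ map_subtype_le _
      refine ⟨⟨R, (hΦ2 R j hRle).symm⟩, Sylow.ext (map_injective (centralizer ({j.1} : Set G)).subtype_injective ?_)⟩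
      rw [hRe]
      exact map_subgroupOf_eq_of_le hRle
  have hC72 : ∀ j : {j : G // orderOf j = 2}, Nat.card ↥(centralizer ({j.1} : Set G)) = 72 := by
    intro j
    have hc : 9 ∣ Nat.card ↥(centralizer ({j.1} : Set G)) := by
      rw [card_centralizer_of_isConj ((involution hN).1 j.1 _ j.2 (Φ T).2)]
      exact sylowThree_card hN T ▸ card_dvd_of_le (hΦ1 T)
    rcases involution_centralizer hN j.2 with h | h | h <;> omega
  obtain ⟨i₀, hi₀⟩ := Φ T
  have hnum : Nat.card {j : G // orderOf j = 2} = 35 := by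
    have h1 := Invol.card_isConj_eq_index i₀
    have h2 := (centralizer ({i₀} : Set G)).card_mul_index
    rw [hC72 ⟨i₀, hi₀⟩, hN, ← h1] at h2
    have h3 : Nat.card {j : G // orderOf j = 2} = Nat.card {g : G // IsConj i₀ g} :=
      Nat.card_congr (Equiv.subtypeEquivRight fun g => ⟨fun hg => (involution hN).1 _ _ hi₀ hg, fun hg => by
        obtain ⟨a, ha⟩ := isConj_iff.1 hg
        rw [← ha, show a * i₀ * a⁻¹ = MulAut.conj a i₀ by simp, MulEquiv.orderOf_eq, hi₀]⟩)
    omega
  have hequiv : ∀ (a : G) (R : Sylow 3 G), (Φ (a • R)).1 = a * (Φ R).1 * a⁻¹ := by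
    intro a R
    have ho : orderOf (a * (Φ R).1 * a⁻¹) = 2 := by
      rw [show a * (Φ R).1 * a⁻¹ = MulAut.conj a (Φ R).1 by simp, MulEquiv.orderOf_eq, (Φ R).2]
    have hle : ((a • R : Sylow 3 G) : Subgroup G) ≤ centralizer ({a * (Φ R).1 * a⁻¹} : Set G) := by
      intro w hw
      rw [Sylow.coe_subgroup_smul, mem_smul_pointwise_iff_exists] at hw
      obtain ⟨z, hz, rfl⟩ := hw
      have h := mem_centralizer_singleton_iff.1 (hΦ1 R hz)
      refine mem_centralizer_singleton_iff.2 ?_
      change a * z * a⁻¹ * (a * (Φ R).1 * a⁻¹) = a * (Φ R).1 * a⁻¹ * (a * z * a⁻¹)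
      calc a * z * a⁻¹ * (a * (Φ R).1 * a⁻¹) = a * (z * (Φ R).1) * a⁻¹ := by group
        _ = a * ((Φ R).1 * z) * a⁻¹ := by rw [h]
        _ = _ := by group
    exact (congrArg Subtype.val (hΦ2 (a • R) ⟨_, ho⟩ hle)).symm
  have hn3 : ∀ j : {j : G // orderOf j = 2},
      Nat.card {R : Sylow 3 G // Φ R = j} = Nat.card (Sylow 3 ↥(centralizer ({i₀} : Set G))) := by
    intro j
    obtain ⟨a, ha⟩ := isConj_iff.1 ((involution hN).1 i₀ j.1 hi₀ j.2)
    refine Eq.trans ?_ (hfib ⟨i₀, hi₀⟩)
    refine (Nat.card_congr ((MulAction.toPerm a).subtypeEquiv fun R => ?_)).symm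
    rw [MulAction.toPerm_apply]
    constructor
    · intro h
      exact Subtype.ext (by rw [hequiv, h]; exact ha)
    · intro h
      have h' : a * (Φ R).1 * a⁻¹ = a * i₀ * a⁻¹ := by rw [← hequiv, h, ha]
      exact Subtype.ext (mul_left_cancel (mul_right_cancel h'))
  have hsum : Nat.card (Sylow 3 G) = 35 * Nat.card (Sylow 3 ↥(centralizer ({i₀} : Set G))) := by
    have := Fintype.ofFinite {j : G // orderOf j = 2}
    rw [← Nat.card_congr (Equiv.sigmaFiberEquiv Φ), Nat.card_sigma,
      Finset.sum_congr rfl (fun j _ => hn3 j), Finset.sum_const, Finset.card_univ,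
      ← Nat.card_eq_fintype_card, hnum, smul_eq_mul]
  have hmod := card_sylow_modEq_one 3 ↥(centralizer ({i₀} : Set G))
  rw [(sylowThree_number hN T).1] at hsum
  unfold Nat.ModEq at hmod
  omega

end CfsgLib.SmallOrder.AltSeven
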