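import Cfsg.Agent.Lib.SmallOrder.Options
import Cfsg.Agent.Lib.Fusion.ThompsonTransfer

/-!
Simple groups of order `2520`: the Sylow `5`- and `7`-subgroups are self-centralising and all involutions
are conjugate.
-/

set_option autoImplicit false

namespace CfsgLib.SmallOrder.AltSeven

open Subgroup

variable {G : Type*} [Group G] [Finite G] [IsSimpleGroup G]

theorem not_comm (hN : Nat.card G = 2520) : ¬ IsMulCommutative G :=
  not_comm_of_not_prime (by rw [hN]; norm_num)

/-- the element `u` commutes with everything in `zpowers s` when it commutes with `s` -/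
theorem mem_centralizer_zpowers {H : Type*} [Group H] {u s : H} (h : Commute u s) :
    u ∈ centralizer ((zpowers s : Subgroup H) : Set H) := by
  refine mem_centralizer_iff.2 fun w hw => ?_
  obtain ⟨n, rfl⟩ := mem_zpowers_iff.1 hw
  exact (h.zpow_right n).symm.eq

/-- a subgroup of prime order is generated by any of its non-trivial elements -/
theorem zpowers_eq_of_prime {H : Type*} [Group H] [Finite H] {A : Subgroup H} {p : ℕ} (hp : p.Prime)
    (hA : Nat.card A = p) {u : H} (hu : u ∈ A) (hu1 : u ≠ 1) : zpowers u = A := by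
  refine eq_of_le_of_card_ge (zpowers_le.2 hu) ?_
  have h := ((Nat.dvd_prime hp).1 (hA ▸ orderOf_dvd_natCard A hu)).resolve_left
    (fun h => hu1 (orderOf_eq_one_iff.1 h))
  rw [Nat.card_zpowers, h, hA]

/-- `36` Sylow `7`-subgroups with centraliser of order `35` are impossible -/
theorem no_thirtysix (hN : Nat.card G = 2520) [Fact (Nat.Prime 7)] (P : Sylow 7 G)
    (hn : Nat.card (Sylow 7 G) = 36) (hc : Nat.card ↥(centralizer ((P : Subgroup G) : Set G)) = 35)
    (hopt : ∀ Q : Sylow 7 G, Nat.card ↥(centralizer ((Q : Subgroup G) : Set G)) = 35) : False := by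
  classical
  have : Fact (Nat.Prime 2) := ⟨Nat.prime_two⟩
  have : Fact (Nat.Prime 5) := ⟨by norm_num⟩
  have hG := not_comm hN
  have hP : Nat.card ↥(P : Subgroup G) = 7 := by
    simpa using card_sylow_eq (e := 1) (m := 360) (by rw [hN]; norm_num) (by norm_num) P
  set C := centralizer ((P : Subgroup G) : Set G) with hC
  set N := normalizer ((P : Subgroup G) : Set G) with hNdef
  have hNc : Nat.card N = 70 := by
    have h := card_normalizer_mul P
    rw [hn, hN, ← hNdef] at h
    omega
  have hidx : N.index = 36 := P.card_eq_index_normalizer.symm.trans hn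
  set x₀ : G ⧸ N := QuotientGroup.mk 1 with hx₀
  -- `C` is regular on the other points
  have hfree : ∀ u ∈ C, ∀ c : G ⧸ N, c ≠ x₀ → u • c = c → u = 1 := by
    intro u hu c hc' huc
    have h35 : u ^ 35 = 1 := orderOf_dvd_iff_pow_eq_one.1 (hc ▸ orderOf_dvd_natCard C hu)
    have hpowfix : ∀ j : ℕ, (u ^ j) • c = c := by
      intro j
      induction j with
      | zero => simp
      | succ j ih => rw [pow_succ, mul_smul, huc, ih]
    have h5 : u ^ 5 = 1 := by
      obtain ⟨S⟩ := exists_csplit P hP
      have hVc : Nat.card S.V = 5 := by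
        have := S.card_centralizer
        rw [← hC, hc] at this
        omega
      obtain ⟨i, v, hv, rfl⟩ := S.hC u hu
      refine orbit_injective P hP hc' ?_ (hpowfix 5)
      rw [(S.commute i hv).mul_pow, (show v ^ 5 = 1 from orderOf_dvd_iff_pow_eq_one.1 ((Subgroup.orderOf_dvd_natCard S.V hv).trans hVc.dvd)),
        mul_one]
      exact pow_mem (S.zpw_mem i) _
    by_contra hu1
    obtain ⟨g, rfl⟩ := QuotientGroup.mk_surjective c
    set Q : Sylow 7 G := g • P with hQdef
    have huQ : u ∈ normalizer ((Q : Subgroup G) : Set G) := by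
      refine smul_eq_self_iff.1 ?_
      rw [MulAction.Quotient.smul_mk, QuotientGroup.eq, smul_eq_mul, mul_inv_rev,
        ← smul_eq_self_iff, mul_smul, mul_smul, inv_smul_eq_iff, inv_smul_eq_iff] at huc
      exact huc.symm
    have hQ : Nat.card ↥(Q : Subgroup G) = 7 := by
      simpa using card_sylow_eq (e := 1) (m := 360) (by rw [hN]; norm_num) (by norm_num) Q
    have huo : orderOf u = 5 := orderOf_eq_prime h5 hu1
    -- `u` centralises `Q`
    have huCQ : u ∈ centralizer ((Q : Subgroup G) : Set G) := by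
      have hNQ : Nat.card ↥(normalizer ((Q : Subgroup G) : Set G)) = 70 := by
        have h := card_normalizer_mul Q
        rw [hn, hN] at h
        omega
      have hindex : ((centralizer ((Q : Subgroup G) : Set G)).subgroupOf
          (normalizer ((Q : Subgroup G) : Set G))).index = 2 := by
        have h := ((centralizer ((Q : Subgroup G) : Set G)).subgroupOf
          (normalizer ((Q : Subgroup G) : Set G))).card_mul_index
        rw [Nat.card_congr (subgroupOfEquivOfLe (centralizer_le_normalizer _)).toEquiv, hopt Q, hNQ] at h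
        omega
      have h2 : u * u ∈ centralizer ((Q : Subgroup G) : Set G) := mul_self_mem_of_index_two hindex ⟨u, huQ⟩
      have : u = (u * u) ^ 3 := by
        rw [← pow_two, ← pow_mul, show 2 * 3 = 5 + 1 from rfl, pow_succ, h5, one_mul]
      rw [this]
      exact pow_mem h2 _
    obtain ⟨T, hT⟩ := exists_sylow_eq (p := 5) (m := 504) (by rw [hN]) (by norm_num)
      (show Nat.card (zpowers u) = 5 by rw [Nat.card_zpowers, huo])
    obtain ⟨n', c', e', hmem, -, hC5, -⟩ := exists_option hN 504 (isq 2520) [(36, 7, 2), (126, 1, 4)]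
      (by norm_num) (by norm_num) (by norm_num) (by decide +kernel) T
    rw [hT] at hC5
    simp only [List.mem_cons, List.not_mem_nil, or_false, Prod.mk.injEq] at hmem
    have hc35 : Nat.card ↥(centralizer ((zpowers u : Subgroup G) : Set G)) ≤ 35 := by
      rcases hmem with ⟨-, rfl, -⟩ | ⟨-, rfl, -⟩ <;> omega
    set Cu := centralizer ((zpowers u : Subgroup G) : Set G) with hCu
    have hle : ∀ R : Sylow 7 G, u ∈ centralizer ((R : Subgroup G) : Set G) → (R : Subgroup G) ≤ Cu :=
      fun R hR w hw => mem_centralizer_zpowers (mem_centralizer_iff.1 hR w hw)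
    have hne : P ≠ Q := by
      intro he
      apply hc'
      rw [hx₀, QuotientGroup.eq, mul_one, inv_mem_iff, hNdef, ← smul_eq_self_iff]
      exact he.symm.trans rfl
    obtain ⟨k, hk1, hk2, hk3⟩ := dvd_card_of_two_sylow P Q hne (hle P hu) (hle Q huCQ)
    have h8 : 8 ≤ k := by omega
    have := Nat.le_of_dvd Nat.card_pos hk3
    rw [hP] at this
    omega
  -- an involution of `N`
  obtain ⟨⟨t, ht⟩, hto⟩ := exists_prime_orderOf_dvd_card' (G := N) 2 (by rw [hNc]; norm_num)
  rw [orderOf_mk] at hto
  have ht2 : t ^ 2 = 1 := hto ▸ pow_orderOf_eq_one t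
  have htC : t ∉ C := fun h => by
    have := orderOf_dvd_natCard C h
    rw [hc, hto] at this
    omega
  have hbase : ∀ u ∈ N, u • x₀ = x₀ := fun u hu => by
    rw [hx₀, MulAction.Quotient.smul_mk, QuotientGroup.eq, smul_eq_mul, mul_one, mul_one]
    exact inv_mem hu
  have hle2 : Nat.card (MulAction.fixedBy (G ⧸ N) t) ≤ 2 := by
    have key : ∀ c d : G ⧸ N, c ≠ x₀ → d ≠ x₀ → t • c = c → t • d = d → c = d := by
      intro c d hc0 hd0 htc htd
      let F : C → {c : G ⧸ N // c ≠ x₀} := fun u => ⟨(u : G) • d, fun h => hd0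
        (MulAction.injective (u : G) (h.trans (hbase u (centralizer_le_normalizer _ u.2)).symm))⟩
      have hF : Function.Bijective F := by
        refine (Nat.bijective_iff_injective_and_card F).2 ⟨fun a b hab => ?_, ?_⟩
        · have h := hfree ((b : G)⁻¹ * a) (mul_mem (inv_mem b.2) a.2) d hd0 (by
            rw [mul_smul, inv_smul_eq_iff]; exact congrArg Subtype.val hab)
          exact (Subtype.ext (inv_mul_eq_one.1 h)).symm
        · have := Fintype.ofFinite (G ⧸ N)
          rw [hc, Nat.card_eq_fintype_card, Fintype.card_subtype_compl, Fintype.card_subtype_eq,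
            ← Nat.card_eq_fintype_card]
          exact (show N.index - 1 = 35 by omega).symm
      obtain ⟨⟨u, hu⟩, huc⟩ := hF.2 ⟨c, hc0⟩
      have hud : u • d = c := congrArg Subtype.val huc
      have htu : t * u * t⁻¹ ∈ C := by
        refine mem_centralizer_iff.2 fun y hy => ?_
        have hy' : t⁻¹ * y * t ∈ (P : Subgroup G) := ((mem_normalizer_iff''.mp ht) y).mp hy
        have h := mem_centralizer_iff.1 hu _ hy'
        calc y * (t * u * t⁻¹) = t * (t⁻¹ * y * t * u) * t⁻¹ := by group
          _ = t * (u * (t⁻¹ * y * t)) * t⁻¹ := by rw [h]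
          _ = t * u * t⁻¹ * y := by group
      have h1 := hfree (u⁻¹ * (t * u * t⁻¹)) (mul_mem (inv_mem hu) htu) d hd0 (by
        rw [mul_smul, mul_smul, mul_smul, inv_smul_eq_iff.2 htd.symm, hud, htc, ← hud, inv_smul_smul])
      rw [inv_mul_eq_one] at h1
      have htu' : t * u = u * t := mul_inv_eq_iff_eq_mul.1 h1.symm
      by_cases hu1 : u = 1
      · rw [← hud, hu1, one_smul]
      exfalso
      -- `u` and `t` commute
      apply htC
      obtain ⟨S⟩ := exists_csplit P hP
      obtain ⟨i, v, hv, rfl⟩ := S.hC u hu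
      have hVc : Nat.card S.V = 5 := by
        have := S.card_centralizer
        rw [← hC, hc] at this
        omega
      by_cases hi : zpw S.z i = 1
      · -- `u` has order five
        rw [hi, one_mul] at hu1 htu'
        obtain ⟨T, hT⟩ := exists_sylow_eq (p := 5) (m := 504) (by rw [hN]) (by norm_num)
          (show Nat.card (zpowers v) = 5 by
            rw [zpowers_eq_of_prime (by norm_num : Nat.Prime 5) hVc hv hu1, hVc])
        obtain ⟨n', c', e', hmem, -, hC5, -⟩ := exists_option hN 504 (isq 2520) [(36, 7, 2), (126, 1, 4)]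
          (by norm_num) (by norm_num) (by norm_num) (by decide +kernel) T
        rw [hT] at hC5
        have ht' := orderOf_dvd_natCard _ (mem_centralizer_zpowers (u := t) (s := v) htu')
        rw [hto, hC5] at ht'
        simp only [List.mem_cons, List.not_mem_nil, or_false, Prod.mk.injEq] at hmem
        exfalso
        rcases hmem with ⟨-, rfl, -⟩ | ⟨-, rfl, -⟩ <;> omega
      · have h1 : Commute t (zpw S.z i) := by
          have h := (show Commute t (zpw S.z i * v) from htu').pow_right 5
          rw [(S.commute i hv).mul_pow, (show v ^ 5 = 1 from orderOf_dvd_iff_pow_eq_one.1 ((Subgroup.orderOf_dvd_natCard S.V hv).trans hVc.dvd)),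
            mul_one] at h
          have h7 : zpw S.z i ^ 7 = 1 :=
            orderOf_dvd_iff_pow_eq_one.1 ((Subgroup.orderOf_dvd_natCard _ (S.zpw_mem i)).trans hP.dvd)
          have h' := h.pow_right 3
          rwa [← pow_mul, show 5 * 3 = 7 * 2 + 1 from rfl, pow_succ, pow_mul, h7, one_pow, one_mul] at h'
        have h2 := mem_centralizer_zpowers h1
        rwa [zpowers_eq_of_prime (by norm_num : Nat.Prime 7) hP (S.zpw_mem i) hi] at h2
    by_cases h : ∃ c : G ⧸ N, c ≠ x₀ ∧ t • c = c
    · obtain ⟨c₁, hc₁, htc₁⟩ := h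
      have hsub : MulAction.fixedBy (G ⧸ N) t ⊆ {x₀, c₁} := by
        intro c hcf
        by_cases he : c = x₀
        · exact Or.inl he
        · exact Or.inr (key c c₁ he hc₁ hcf htc₁)
      rw [Nat.card_coe_set_eq]
      exact (Set.ncard_le_ncard hsub).trans ((Set.ncard_insert_le _ _).trans (by rw [Set.ncard_singleton]))
    · push Not at h
      have hsub : MulAction.fixedBy (G ⧸ N) t ⊆ {x₀} := fun c hcf =>
        by_contra fun he => h c he hcf
      rw [Nat.card_coe_set_eq]
      exact (Set.ncard_le_ncard hsub).trans (by rw [Set.ncard_singleton]; norm_num)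
  have hpos : 1 ≤ Nat.card (MulAction.fixedBy (G ⧸ N) t) := by
    have : Nonempty (MulAction.fixedBy (G ⧸ N) t) := ⟨⟨x₀, hbase t ht⟩⟩
    exact Nat.card_pos
  have h4 := fixedBy_involution_mod_four hG N ht2
  rw [hidx] at h4
  omega

/-- The Sylow `7`-subgroups are self-centralising. -/
theorem seven (hN : Nat.card G = 2520) [Fact (Nat.Prime 7)] (P : Sylow 7 G) :
    Nat.card ↥(centralizer ((P : Subgroup G) : Set G)) = 7 := by
  have hopt : ∀ Q : Sylow 7 G, (Nat.card (Sylow 7 G) = 36 ∧
      Nat.card ↥(centralizer ((Q : Subgroup G) : Set G)) = 35) ∨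
      (Nat.card (Sylow 7 G) = 120 ∧ Nat.card ↥(centralizer ((Q : Subgroup G) : Set G)) = 7) := by
    intro Q
    obtain ⟨n, c, e, hmem, hn, hC, -⟩ := exists_option hN 360 (isq 2520) [(36, 5, 2), (120, 1, 3)]
      (by norm_num) (by norm_num) (by norm_num) (by decide +kernel) Q
    simp only [List.mem_cons, List.not_mem_nil, or_false, Prod.mk.injEq] at hmem
    rcases hmem with ⟨rfl, rfl, rfl⟩ | ⟨rfl, rfl, rfl⟩
    · exact Or.inl ⟨hn, hC⟩
    · exact Or.inr ⟨hn, hC⟩
  rcases hopt P with ⟨hn, hC⟩ | ⟨-, hC⟩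
  · refine (no_thirtysix hN P hn hC fun Q => ?_).elim
    rcases hopt Q with ⟨-, h⟩ | ⟨h, -⟩
    · exact h
    · omega
  · exact hC

/-- The Sylow `5`-subgroups are self-centralising with normalisers of order `20`. -/
theorem five (hN : Nat.card G = 2520) [Fact (Nat.Prime 5)] (P : Sylow 5 G) :
    Nat.card ↥(centralizer ((P : Subgroup G) : Set G)) = 5 ∧
      Nat.card ↥(normalizer ((P : Subgroup G) : Set G)) = 20 := by
  obtain ⟨n, c, e, hmem, -, hC, hNP⟩ := exists_option hN 504 (isq 2520) [(36, 7, 2), (126, 1, 4)]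
    (by norm_num) (by norm_num) (by norm_num) (by decide +kernel) P
  simp only [List.mem_cons, List.not_mem_nil, or_false, Prod.mk.injEq] at hmem
  rcases hmem with ⟨-, rfl, rfl⟩ | ⟨-, rfl, rfl⟩
  · exfalso
    have : Fact (Nat.Prime 7) := ⟨by norm_num⟩
    have hP : Nat.card ↥(P : Subgroup G) = 5 := by
      simpa using card_sylow_eq (e := 1) (m := 504) (by rw [hN]; norm_num) (by norm_num) P
    obtain ⟨⟨y, hy⟩, hyo⟩ := exists_prime_orderOf_dvd_card'
      (G := ↥(centralizer ((P : Subgroup G) : Set G))) 7 (by rw [hC]; norm_num)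
    rw [orderOf_mk] at hyo
    obtain ⟨Q, hQ⟩ := exists_sylow_eq (p := 7) (m := 360) (by rw [hN])
      (by norm_num) (show Nat.card (zpowers y) = 7 by rw [Nat.card_zpowers, hyo])
    have h := seven hN Q
    rw [hQ] at h
    have hle : (P : Subgroup G) ≤ centralizer ((zpowers y : Subgroup G) : Set G) :=
      fun w hw => mem_centralizer_zpowers (mem_centralizer_iff.1 hy w hw)
    have hd := card_dvd_of_le hle
    rw [h, hP] at hd
    norm_num at hd
  · exact ⟨hC, hNP⟩

/-- Elements of order prime to `35` have centralisers of order prime to `35`. -/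
theorem centralizer_local (hN : Nat.card G = 2520) {g : G} (hg : g ≠ 1) (h5 : ¬ 5 ∣ orderOf g)
    (h7 : ¬ 7 ∣ orderOf g) :
    ¬ 5 ∣ Nat.card ↥(centralizer ({g} : Set G)) ∧ ¬ 7 ∣ Nat.card ↥(centralizer ({g} : Set G)) := by
  have key : ∀ p : ℕ, p.Prime → ¬ p ∣ orderOf g → ∀ m, Nat.card G = p * m → ¬ p ∣ m →
      (∀ [Fact p.Prime] (P : Sylow p G), Nat.card ↥(centralizer ((P : Subgroup G) : Set G)) = p) →
      ¬ p ∣ Nat.card ↥(centralizer ({g} : Set G)) := by
    intro p hp hpg m hm hpm hC hdvd
    have : Fact p.Prime := ⟨hp⟩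
    obtain ⟨⟨y, hy⟩, hyo⟩ := exists_prime_orderOf_dvd_card' (G := ↥(centralizer ({g} : Set G))) p hdvd
    rw [orderOf_mk] at hyo
    obtain ⟨Q, hQ⟩ := exists_sylow_eq (p := p) (m := m) hm hpm
      (show Nat.card (zpowers y) = p by rw [Nat.card_zpowers, hyo])
    have h := hC Q
    rw [hQ] at h
    have hmem : g ∈ centralizer ((zpowers y : Subgroup G) : Set G) :=
      mem_centralizer_zpowers ((mem_centralizer_singleton_iff.1 hy).symm :)
    have hd := h ▸ orderOf_dvd_natCard _ hmem
    rcases (Nat.dvd_prime hp).1 hd with h' | h'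
    · exact hg (orderOf_eq_one_iff.1 h')
    · exact hpg (h' ▸ dvd_rfl)
  refine ⟨key 5 (by norm_num) h5 504 hN (by norm_num) ?_, key 7 (by norm_num) h7 360 hN (by norm_num) ?_⟩
  · intro _ P; exact (five hN P).1
  · intro _ P; exact seven hN P

/-- There is an element of order four. -/
theorem exists_order_four (hN : Nat.card G = 2520) : ∃ y : G, orderOf y = 4 := by
  have : Fact (Nat.Prime 5) := ⟨by norm_num⟩
  obtain ⟨P⟩ := (inferInstance : Nonempty (Sylow 5 G))
  obtain ⟨hC, hNP⟩ := five hN P
  have hP : Nat.card ↥(P : Subgroup G) = 5 := by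
    simpa using card_sylow_eq (e := 1) (m := 504) (by rw [hN]; norm_num) (by norm_num) P
  cases nonempty_fintype G
  obtain ⟨S⟩ := exists_csplit P hP
  have hV : Nat.card S.V = 1 := by
    have h := S.card_centralizer
    rw [hC] at h
    omega
  have he : Nat.card S.act.range = 4 := by
    have h := S.card_normalizer
    rw [hNP, hV] at h
    omega
  obtain ⟨⟨a, ha⟩, hgen⟩ := IsCyclic.exists_generator (α := S.act.range)
  obtain ⟨⟨g, hgN⟩, rfl⟩ := MonoidHom.mem_range.1 ha
  have hao : orderOf (S.act ⟨g, hgN⟩) = 4 := by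
    rw [← orderOf_mk _ ha, orderOf_eq_card_of_forall_mem_zpowers hgen, he]
  have h1 : 4 ∣ orderOf g := by
    have h := orderOf_map_dvd S.act ⟨g, hgN⟩
    rwa [hao, orderOf_mk] at h
  obtain ⟨k, hk⟩ := h1
  refine ⟨g ^ k, ?_⟩
  have hk0 : 0 < k := by
    rcases Nat.eq_zero_or_pos k with h | h
    · exfalso
      have := orderOf_pos g
      rw [hk, h] at this
      omega
    · exact h
  rw [orderOf_pow' _ hk0.ne', hk, Nat.gcd_mul_left_left, Nat.mul_div_cancel _ hk0]

/-- All involutions are conjugate and their centralisers have order divisible by `8`. -/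
theorem involution (hN : Nat.card G = 2520) :
    (∀ s t : G, orderOf s = 2 → orderOf t = 2 → IsConj s t) ∧
      ∀ s : G, orderOf s = 2 → 8 ∣ Nat.card ↥(centralizer ({s} : Set G)) := by
  have : Fact (Nat.Prime 2) := ⟨Nat.prime_two⟩
  have hG := not_comm hN
  obtain ⟨y, hy⟩ := exists_order_four hN
  obtain ⟨S, hS⟩ := (IsPGroup.of_card (p := 2) (n := 2) (G := zpowers y)
    (by rw [Nat.card_zpowers, hy]; norm_num)).exists_le_sylow
  have hSc : Nat.card ↥(S : Subgroup G) = 8 := by
    simpa using card_sylow_eq (e := 3) (m := 315) (by rw [hN]; norm_num) (by norm_num) S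
  have hrel : (zpowers y).relIndex (S : Subgroup G) = 2 := by
    have h := ((zpowers y).subgroupOf (S : Subgroup G)).card_mul_index
    rw [Nat.card_congr (subgroupOfEquivOfLe hS).toEquiv, Nat.card_zpowers, hy, hSc] at h
    change 4 * (zpowers y).relIndex (S : Subgroup G) = 8 at h
    omega
  have hy4 : y ^ 4 = 1 := hy ▸ pow_orderOf_eq_one y
  have hz : ∀ w ∈ zpowers y, w ^ 2 = 1 → w = 1 ∨ w = y ^ 2 := by
    intro w hw hw2
    obtain ⟨n, hn⟩ := mem_powers_iff_mem_zpowers.2 hw
    change y ^ n = w at hn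
    subst hn
    rw [← pow_mul] at hw2
    have h4 := orderOf_dvd_of_pow_eq_one hw2
    rw [hy] at h4
    have h2 : n % 4 = 0 ∨ n % 4 = 2 := by omega
    rw [← pow_mod_orderOf, hy]
    rcases h2 with h | h <;> rw [h]
    · exact Or.inl (pow_zero y)
    · exact Or.inr rfl
  have hy2 : y ^ 2 ≠ 1 := pow_ne_one_of_lt_orderOf two_ne_zero (by rw [hy]; norm_num)
  have hconj : ∀ s : G, orderOf s = 2 → IsConj s (y ^ 2) := by
    intro s hs
    by_contra hno
    have hno' : ∀ g : G, g * s * g⁻¹ ∉ zpowers y := by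
      intro g hg
      rcases hz _ hg (by rw [conj_pow, ← hs, pow_orderOf_eq_one]; group) with h | h
      · rw [conj_eq_one_iff] at h
        rw [h, orderOf_one] at hs
        omega
      · exact hno (isConj_iff.2 ⟨g, h⟩)
    obtain ⟨M, hM, hMi, hsM⟩ := CfsgLib.ThompsonTransfer.exists_normal_index_two (S : Subgroup G)
      (zpowers y) (by
        have h := (S : Subgroup G).card_mul_index
        rw [hSc, hN] at h
        exact ⟨157, by omega⟩) hrel s (hs ▸ pow_orderOf_eq_one s) hno'
    rcases hM.eq_bot_or_eq_top with h | h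
    · rw [h, index_bot, hN] at hMi
      omega
    · exact hsM (h ▸ mem_top s)
  refine ⟨fun s t hs ht => (hconj s hs).trans (hconj t ht).symm, fun s hs => ?_⟩
  have hSle : (S : Subgroup G) ≤ centralizer ({y ^ 2} : Set G) := by
    intro w hw
    refine mem_centralizer_singleton_iff.2 ?_
    have hnorm : ((zpowers y).subgroupOf (S : Subgroup G)).Normal := normal_of_index_eq_two hrel
    have hconjy : w * y ^ 2 * w⁻¹ ∈ zpowers y :=
      hnorm.conj_mem ⟨y ^ 2, pow_mem (hS (mem_zpowers y)) 2⟩ (mem_subgroupOf.2 (pow_mem (mem_zpowers y) 2)) ⟨w, hw⟩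
    rcases hz _ hconjy (by rw [conj_pow, ← pow_mul, hy4]; group) with h | h
    · exact absurd (conj_eq_one_iff.1 h) hy2
    · exact mul_inv_eq_iff_eq_mul.1 h
  obtain ⟨a, ha⟩ := isConj_iff.1 (hconj s hs)
  have h8 : 8 ∣ Nat.card ↥(centralizer ({y ^ 2} : Set G)) := hSc ▸ card_dvd_of_le hSle
  refine h8.trans (dvd_of_eq ?_)
  refine Nat.card_congr ((MulAut.conj a⁻¹).toEquiv.subtypeEquiv fun w => ?_)
  simp only [mem_centralizer_singleton_iff, MulEquiv.toEquiv_eq_coe, EquivLike.coe_coe,
    MulAut.conj_apply, inv_inv]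
  rw [← ha]
  constructor
  · intro h
    calc a⁻¹ * w * a * s = a⁻¹ * (w * (a * s * a⁻¹)) * a := by group
      _ = a⁻¹ * (a * s * a⁻¹ * w) * a := by rw [h]
      _ = s * (a⁻¹ * w * a) := by group
  · intro h
    calc w * (a * s * a⁻¹) = a * (a⁻¹ * w * a * s) * a⁻¹ := by group
      _ = a * (s * (a⁻¹ * w * a)) * a⁻¹ := by rw [h]
      _ = a * s * a⁻¹ * w := by group

end CfsgLib.SmallOrder.AltSeven
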